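import Groth.Agent.Lib.Serre.Smooth
import Groth.Agent.Lib.NormalSerre.Serre
import Mathlib.RingTheory.Regular.Flat
import Mathlib.RingTheory.Unramified.LocalRing
import Mathlib.AlgebraicGeometry.Morphisms.Etale
import Mathlib.AlgebraicGeometry.Noetherian

/-!
# Local rings along etale morphisms: regularity, dimension, normality
-/

universe u

open AlgebraicGeometry CategoryTheory IsLocalRing RingTheory.Sequence

namespace GrothLib.EtBasicB

section

variable (R S : Type u) [CommRing R] [CommRing S] [Algebra R S] [IsLocalRing R] [IsLocalRing S]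
  [IsNoetherianRing R] [IsLocalHom (algebraMap R S)] [Module.Flat R S]
  [Algebra.FormallyUnramified R S] [Algebra.EssFiniteType R S]

omit [IsNoetherianRing R] [IsLocalHom (algebraMap R S)] [Module.Flat R S]
  [Algebra.FormallyUnramified R S] [IsLocalRing R] [IsLocalRing S] in
theorem isNoetherianRing_of_essFiniteType [IsNoetherianRing R] : IsNoetherianRing S :=
  Algebra.EssFiniteType.isNoetherianRing R S

theorem isRegularLocalRing_iff_of_unramified : IsRegularLocalRing S ↔ IsRegularLocalRing R := by
  haveI := isNoetherianRing_of_essFiniteType R S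
  constructor
  · intro h
    exact GrothLib.Serre.isRegularLocalRing_of_flat R S
  · intro h
    refine GrothLib.Serre.isRegularLocalRing_of_flat_of_fibre R S ?_
    rw [Algebra.FormallyUnramified.map_maximalIdeal]
    let _ := Ideal.Quotient.field (maximalIdeal S)
    infer_instance

theorem height_maximalIdeal_eq : (maximalIdeal S).height = (maximalIdeal R).height := by
  haveI := isNoetherianRing_of_essFiniteType R S
  have : (maximalIdeal S).LiesOver (maximalIdeal R) :=
    ⟨((((local_hom_TFAE (algebraMap R S)).out 0 4 rfl rfl).mp inferInstance)).symm⟩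
  rw [Ideal.height_eq_height_add_of_liesOver_of_hasGoingDown (maximalIdeal R) (maximalIdeal S),
    Algebra.FormallyUnramified.map_maximalIdeal, Ideal.map_quotient_self, Ideal.height_bot, add_zero]

theorem ringKrullDim_eq : ringKrullDim S = ringKrullDim R := by
  haveI := isNoetherianRing_of_essFiniteType R S
  rw [← maximalIdeal_height_eq_ringKrullDim, ← maximalIdeal_height_eq_ringKrullDim,
    height_maximalIdeal_eq R S]

theorem normal_of_normal [IsDomain R] [IsIntegrallyClosed R] : IsDomain S ∧ IsIntegrallyClosed S := by
  haveI := isNoetherianRing_of_essFiniteType R S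
  have hheight : ∀ {T : Type u} [CommRing T] (p : Ideal T) [p.IsPrime],
      (maximalIdeal (Localization.AtPrime p)).height = p.height := fun {T} _ p _ => by
    have h := IsLocalization.AtPrime.ringKrullDim_eq_height p (Localization.AtPrime p)
    rw [← maximalIdeal_height_eq_ringKrullDim] at h
    exact_mod_cast h
  have key : ∀ (P : Ideal S) [P.IsPrime],
      IsDomain (Localization.AtPrime P) ∧ IsIntegrallyClosed (Localization.AtPrime P) := by
    have setup : ∀ (P : Ideal S) [P.IsPrime] (p : Ideal R) [p.IsPrime] [P.LiesOver p],
        letI := Localization.AtPrime.algebraOfLiesOver p P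
        IsLocalHom (algebraMap (Localization.AtPrime p) (Localization.AtPrime P)) ∧
        Algebra.FormallyUnramified (Localization.AtPrime p) (Localization.AtPrime P) ∧
        Algebra.EssFiniteType (Localization.AtPrime p) (Localization.AtPrime P) := by
      intro P _ p _ _
      letI := Localization.AtPrime.algebraOfLiesOver p P
      haveI : Algebra.EssFiniteType S (Localization.AtPrime P) := .of_isLocalization _ P.primeCompl
      haveI : Algebra.EssFiniteType R (Localization.AtPrime P) := .comp _ S _
      haveI : Algebra.FormallyUnramified R (Localization.AtPrime P) :=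
        Algebra.FormallyUnramified.comp R S (Localization.AtPrime P)
      exact ⟨inferInstance, Algebra.FormallyUnramified.of_restrictScalars R _ _, .of_comp R _ _⟩
    refine GrothLib.NormalSerre.isDomain_isIntegrallyClosed_localization S (fun P _ hP => ?_)
      (fun P _ hP => ?_)
    · let p := P.under R
      letI := Localization.AtPrime.algebraOfLiesOver p P
      obtain ⟨_, _, _⟩ := setup P p
      haveI : IsDomain (Localization.AtPrime p) :=
        IsLocalization.isDomain_localization (Ideal.primeCompl_le_nonZeroDivisors p)
      haveI : IsIntegrallyClosed (Localization.AtPrime p) :=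
        isIntegrallyClosed_of_isLocalization _ p.primeCompl (Ideal.primeCompl_le_nonZeroDivisors p)
      haveI : IsRegularLocalRing (Localization.AtPrime p) := by
        apply GrothLib.NormalSerre.isRegularLocalRing_of_isIntegrallyClosed
        rw [← height_maximalIdeal_eq (Localization.AtPrime p) (Localization.AtPrime P), hheight]
        exact hP
      haveI := (isRegularLocalRing_iff_of_unramified (Localization.AtPrime p)
        (Localization.AtPrime P)).2 inferInstance
      exact ⟨GrothLib.CMFree.isDomain_of_isRegularLocalRing _,
        GrothLib.RegLoc.isIntegrallyClosed_of_isRegularLocalRing _⟩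
    · let p := P.under R
      letI := Localization.AtPrime.algebraOfLiesOver p P
      obtain ⟨_, _, _⟩ := setup P p
      haveI : IsDomain (Localization.AtPrime p) :=
        IsLocalization.isDomain_localization (Ideal.primeCompl_le_nonZeroDivisors p)
      haveI : IsIntegrallyClosed (Localization.AtPrime p) :=
        isIntegrallyClosed_of_isLocalization _ p.primeCompl (Ideal.primeCompl_le_nonZeroDivisors p)
      obtain ⟨x, y, hx, hy, hxy⟩ := GrothLib.NormalSerre.exists_pair_of_isIntegrallyClosed
        (A := Localization.AtPrime p) (by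
          rw [← height_maximalIdeal_eq (Localization.AtPrime p) (Localization.AtPrime P), hheight]
          exact hP)
      let φ := algebraMap (Localization.AtPrime p) (Localization.AtPrime P)
      exact ⟨φ x, φ y, map_nonunit φ x hx, map_nonunit φ y hy,
        hxy.of_flat (S := Localization.AtPrime P)⟩
  obtain ⟨_, _⟩ := key (maximalIdeal S)
  let e : S ≃+* Localization.AtPrime (maximalIdeal S) :=
    (IsLocalization.atUnits S (maximalIdeal S).primeCompl fun x hx => of_not_not hx).toRingEquiv
  exact ⟨e.injective.isDomain, IsIntegrallyClosed.of_equiv e.symm⟩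

omit [IsNoetherianRing R] [Algebra.FormallyUnramified R S] [Algebra.EssFiniteType R S] in
theorem normal_of_normal_target [IsDomain S] [IsIntegrallyClosed S] :
    IsDomain R ∧ IsIntegrallyClosed R := by
  haveI : Module.FaithfullyFlat R S := Module.FaithfullyFlat.of_flat_of_isLocalHom
  have hinj := FaithfulSMul.algebraMap_injective R S
  haveI : IsDomain R := hinj.isDomain
  refine ⟨inferInstance, (isIntegrallyClosed_iff (FractionRing R)).2 fun {x} hx => ?_⟩
  obtain ⟨⟨a, b, hb⟩, rfl⟩ := IsLocalization.mk'_surjective (nonZeroDivisors R) x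
  have hg : Function.Injective (algebraMap R (FractionRing S)) := by
    rw [IsScalarTower.algebraMap_eq R S (FractionRing S)]
    exact (IsFractionRing.injective S (FractionRing S)).comp hinj
  let ψ : FractionRing R →ₐ[R] FractionRing S :=
    IsFractionRing.liftAlgHom (g := Algebra.ofId R (FractionRing S)) hg
  obtain ⟨c, hc⟩ := (isIntegrallyClosed_iff (FractionRing S)).1 inferInstance
    ((hx.map ψ).tower_top (A := S))
  have hb0 : algebraMap R (FractionRing R) b ≠ 0 :=
    IsFractionRing.to_map_ne_zero_of_mem_nonZeroDivisors hb
  have h1 : algebraMap R S a = c * algebraMap R S b := by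
    apply IsFractionRing.injective S (FractionRing S)
    rw [map_mul, hc, ← IsScalarTower.algebraMap_apply, ← IsScalarTower.algebraMap_apply, ← ψ.commutes,
      ← ψ.commutes, ← map_mul, IsLocalization.mk'_spec (FractionRing R) a ⟨b, hb⟩]
  have h2 : a ∈ ((Ideal.span {b}).map (algebraMap R S)).comap (algebraMap R S) := by
    rw [Ideal.mem_comap, Ideal.map_span, Set.image_singleton, h1]
    exact Ideal.mul_mem_left _ _ (Ideal.subset_span rfl)
  rw [Ideal.comap_map_eq_self_of_faithfullyFlat] at h2
  obtain ⟨r, rfl⟩ := Ideal.mem_span_singleton'.1 h2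
  exact ⟨r, by rw [eq_comm, IsLocalization.mk'_eq_iff_eq_mul, ← map_mul]⟩

end

section Scheme

variable {X Y : Scheme.{u}} (f : X ⟶ Y) [Etale f] [IsLocallyNoetherian Y] (x : X)

theorem stalk_properties :
    letI := (f.stalkMap x).hom.toAlgebra
    IsLocalHom (algebraMap (Y.presheaf.stalk (f.base x)) (X.presheaf.stalk x)) ∧
      Module.Flat (Y.presheaf.stalk (f.base x)) (X.presheaf.stalk x) ∧
      Algebra.FormallyUnramified (Y.presheaf.stalk (f.base x)) (X.presheaf.stalk x) ∧
      Algebra.EssFiniteType (Y.presheaf.stalk (f.base x)) (X.presheaf.stalk x) := by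
  algebraize [(f.stalkMap x).hom]
  exact ⟨inferInstanceAs (IsLocalHom (f.stalkMap x).hom), Flat.stalkMap f x,
    FormallyUnramified.stalkMap f x, LocallyOfFiniteType.stalkMap f x⟩

theorem isRegularLocalRing_stalk_iff :
    IsRegularLocalRing (X.presheaf.stalk x) ↔ IsRegularLocalRing (Y.presheaf.stalk (f.base x)) := by
  letI := (f.stalkMap x).hom.toAlgebra
  obtain ⟨_, _, _, _⟩ := stalk_properties f x
  exact isRegularLocalRing_iff_of_unramified _ _

theorem ringKrullDim_stalk_eq :
    ringKrullDim (X.presheaf.stalk x) = ringKrullDim (Y.presheaf.stalk (f.base x)) := by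
  letI := (f.stalkMap x).hom.toAlgebra
  obtain ⟨_, _, _, _⟩ := stalk_properties f x
  exact ringKrullDim_eq _ _

theorem isNormal_stalk_iff :
    (IsDomain (X.presheaf.stalk x) ∧ IsIntegrallyClosed (X.presheaf.stalk x)) ↔
      (IsDomain (Y.presheaf.stalk (f.base x)) ∧ IsIntegrallyClosed (Y.presheaf.stalk (f.base x))) := by
  letI := (f.stalkMap x).hom.toAlgebra
  obtain ⟨_, _, _, _⟩ := stalk_properties f x
  refine ⟨fun ⟨_, _⟩ => normal_of_normal_target _ (X.presheaf.stalk x), fun ⟨_, _⟩ => ?_⟩
  exact normal_of_normal (Y.presheaf.stalk (f.base x)) _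

end Scheme

end GrothLib.EtBasicB
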