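import Groth.Agent.Lib.EtBasicB.Reduced
import Mathlib.AlgebraicGeometry.Artinian
import Mathlib.AlgebraicGeometry.Limits
import Mathlib.AlgebraicGeometry.Morphisms.QuasiFinite
import Mathlib.AlgebraicGeometry.Morphisms.FormallyUnramified
import Mathlib.RingTheory.Etale.Field
import Mathlib.RingTheory.Unramified.Finite
import Mathlib.RingTheory.Unramified.LocalStructure

/-!
# Schemes etale over a field
-/

universe u

open AlgebraicGeometry CategoryTheory CategoryTheory.Limits

namespace GrothLib.EtBasicB

theorem locallyQuasiFinite_of_unramified {X Y : Scheme.{u}} (f : X ⟶ Y) [LocallyOfFiniteType f]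
    [FormallyUnramified f] : LocallyQuasiFinite f := by
  rw [HasRingHomProperty.iff_appLE (P := @LocallyQuasiFinite)]
  intro U V e
  have h1 := HasRingHomProperty.appLE @LocallyOfFiniteType f inferInstance U V e
  have h2 := HasRingHomProperty.appLE @FormallyUnramified f inferInstance U V e
  algebraize [(f.appLE U V e).hom]
  exact RingHom.quasiFinite_algebraMap.2 inferInstance

theorem etale_of_field_iff (k : Type u) [Field k] (U : Scheme.{u}) (φ : U ⟶ Spec (CommRingCat.of k)) :
    AlgebraicGeometry.Etale φ ↔
      ∃ (ι : Type u) (K : ι → Type u) (_ : ∀ i, Field (K i)) (_ : ∀ i, Algebra k (K i))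
        (_ : ∀ i, FiniteDimensional k (K i)) (_ : ∀ i, Algebra.IsSeparable k (K i))
        (e : (∐ fun i => Spec (CommRingCat.of (K i))) ≅ U),
        ∀ i, Sigma.ι (fun i => Spec (CommRingCat.of (K i))) i ≫ e.hom ≫ φ =
          Spec.map (CommRingCat.ofHom (algebraMap k (K i))) := by
  constructor
  · intro hφ
    haveI := locallyQuasiFinite_of_unramified φ
    haveI : IsLocallyArtinian U := IsLocallyArtinian.of_locallyQuasiFinite φ
    haveI : DiscreteTopology U := IsLocallyArtinian.discreteTopology
    haveI : ∀ x : U, _root_.IsReduced (U.presheaf.stalk x) := fun x => by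
      rw [isReduced_stalk_iff_of_etale φ x]
      infer_instance
    haveI : IsReduced U := isReduced_of_isReduced_stalk U
    let V : U → U.Opens := fun x => ⟨{x}, isOpen_discrete _⟩
    haveI hsub : ∀ x, Subsingleton (V x : Scheme.{u}) := fun x =>
      inferInstanceAs (Subsingleton ({x} : Set U))
    haveI hne : ∀ x, Nonempty (V x : Scheme.{u}) := fun x => ⟨⟨x, rfl⟩⟩
    haveI hint : ∀ x, IsIntegral (V x : Scheme.{u}) := fun x => by
      haveI : IsReduced (V x : Scheme.{u}) := isReduced_of_isOpenImmersion (V x).ι
      exact (isIntegral_iff_irreducibleSpace_and_isReduced _).mpr ⟨⟨inferInstance⟩, inferInstance⟩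
    let K : U → Type u := fun x => Γ((V x : Scheme.{u}), ⊤)
    letI hK : ∀ x, Field (K x) := fun x => (isField_of_isIntegral_of_subsingleton (V x : Scheme.{u})).toField
    haveI haff : ∀ x, IsAffine (V x : Scheme.{u}) := fun x =>
      haveI : DiscreteTopology (V x : Scheme.{u}) := inferInstanceAs (DiscreteTopology ({x} : Set U))
      inferInstance
    let a : ∀ x, Spec (CommRingCat.of (K x)) ⟶ U := fun x =>
      (V x : Scheme.{u}).isoSpec.inv ≫ (V x).ι
    choose ψ hψ using fun x => Spec.map_surjective (a x ≫ φ)
    letI hA : ∀ x, Algebra k (K x) := fun x => (ψ x).hom.toAlgebra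
    have het : ∀ x, Algebra.Etale k (K x) := fun x => by
      have h1 : Etale (Spec.map (ψ x)) := by rw [hψ x]; infer_instance
      exact RingHom.etale_algebraMap.1 ((HasRingHomProperty.Spec_iff (P := @Etale)).1 h1)
    have hfin : ∀ x, FiniteDimensional k (K x) := fun x => Algebra.FormallyUnramified.finite_of_free k (K x)
    have hsep : ∀ x, Algebra.IsSeparable k (K x) := fun x =>
      (Algebra.FormallyEtale.iff_isSeparable k (K x)).1 inferInstance
    haveI : ∀ x, IsOpenImmersion (a x) := fun x => inferInstance
    have hr : ∀ x, (a x).opensRange = V x := fun x => by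
      rw [show (a x).opensRange = _ from Scheme.Hom.opensRange_comp_of_isIso _ _, Scheme.Opens.opensRange_ι]
    obtain ⟨hc⟩ := nonempty_isColimit_cofanMk_of a (by
      rw [eq_top_iff]
      intro x _
      exact TopologicalSpace.Opens.mem_iSup.2 ⟨x, (hr x).ge rfl⟩) (fun x y hxy => by
      rw [Function.onFun, hr, hr, disjoint_iff, TopologicalSpace.Opens.ext_iff]
      exact Set.singleton_inter_eq_empty.2 hxy)
    refine ⟨U, K, hK, hA, hfin, hsep, (coproductIsCoproduct _).coconePointUniqueUpToIso hc, fun x => ?_⟩
    rw [← Category.assoc]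
    exact (congrArg (· ≫ φ) ((coproductIsCoproduct _).comp_coconePointUniqueUpToIso_hom hc ⟨x⟩)).trans
      (hψ x).symm
  · rintro ⟨ι, K, _, _, hfin, hsep, e, he⟩
    rw [← MorphismProperty.cancel_left_of_respectsIso @Etale e.hom φ]
    refine IsZariskiLocalAtSource.of_openCover (P := @Etale) (sigmaOpenCover _) fun i => ?_
    have := hfin i
    have := hsep i
    have : Algebra.FormallyEtale k (K i) := Algebra.FormallyEtale.of_isSeparable k (K i)
    have : Algebra.Etale k (K i) := ⟨inferInstance, Algebra.FinitePresentation.of_finiteType.mp inferInstance⟩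
    change Etale (Sigma.ι (fun i => Spec (CommRingCat.of (K i))) i ≫ e.hom ≫ φ)
    rw [he i]
    exact (HasRingHomProperty.Spec_iff (P := @Etale)).2 (RingHom.etale_algebraMap.2 inferInstance)

end GrothLib.EtBasicB
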