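import Mathlib.AlgebraicGeometry.Morphisms.Etale
import Mathlib.AlgebraicGeometry.Morphisms.FlatMono
import Mathlib.AlgebraicGeometry.Morphisms.ClosedImmersion
import Mathlib.AlgebraicGeometry.Morphisms.Separated
import Mathlib.AlgebraicGeometry.Noetherian
import Mathlib.Topology.Connected.Clopen

/-!
# Sections of unramified separated morphisms
-/

universe u

open AlgebraicGeometry CategoryTheory CategoryTheory.Limits TopologicalSpace

namespace GrothLib.EtBasicB

variable {X Y : Scheme.{u}} (f : X ⟶ Y) [FormallyUnramified f] [LocallyOfFiniteType f]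
  [IsSeparated f] (s : Y ⟶ X) (hs : s ≫ f = 𝟙 Y)
include hs

theorem isOpenImmersion_section : IsOpenImmersion s := by
  haveI : Mono s := mono_of_mono_fac hs
  haveI : Etale (s ≫ f) := hs.symm ▸ inferInstanceAs (Etale (𝟙 Y))
  haveI : Etale s := Etale.of_comp s f
  exact IsOpenImmersion.of_flat_of_mono s

theorem isClopen_range_section : IsClopen (Set.range s.base) := by
  haveI := isOpenImmersion_section f s hs
  haveI : IsClosedImmersion (s ≫ f) := hs.symm ▸ inferInstanceAs (IsClosedImmersion (𝟙 Y))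
  haveI := IsClosedImmersion.of_comp s f
  exact ⟨s.isClosedEmbedding.isClosed_range, s.isOpenEmbedding.isOpen_range⟩

omit hs in
theorem section_ext {s t : Y ⟶ X} (hs : s ≫ f = 𝟙 Y) (ht : t ≫ f = 𝟙 Y)
    (h : Set.range t.base = Set.range s.base) : s = t := by
  haveI := isOpenImmersion_section f s hs
  have e := IsOpenImmersion.lift_fac s t h.le
  have : IsOpenImmersion.lift s t h.le = 𝟙 Y := by
    have h2 : IsOpenImmersion.lift s t h.le ≫ s ≫ f = t ≫ f := by rw [← Category.assoc, e]
    rwa [hs, ht, Category.comp_id] at h2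
  rw [this, Category.id_comp] at e
  exact e

omit hs in
theorem finite_sections [NoetherianSpace X] : Set.Finite {s : Y ⟶ X | s ≫ f = 𝟙 Y} := by
  haveI : Finite (irreducibleComponents X) := NoetherianSpace.finite_irreducibleComponents.to_subtype
  have key : ∀ C : Set X, IsClopen C → ∀ x, x ∈ C ↔
      ∃ Z : irreducibleComponents X, Z.1 ⊆ C ∧ x ∈ Z.1 := fun C hC x =>
    ⟨fun hx => ⟨⟨irreducibleComponent x, irreducibleComponent_mem_irreducibleComponents x⟩,
      (isIrreducible_irreducibleComponent (x := x)).2.isPreconnected.subset_isClopen hC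
        ⟨x, mem_irreducibleComponent, hx⟩, mem_irreducibleComponent⟩,
      fun ⟨Z, hZ, hx⟩ => hZ hx⟩
  let φ : {s : Y ⟶ X // s ≫ f = 𝟙 Y} → Set (irreducibleComponents X) := fun s =>
    {Z | Z.1 ⊆ Set.range s.1.base}
  have hφ : Function.Injective φ := fun s t h => Subtype.ext (section_ext f s.2 t.2 (by
    ext x
    rw [key _ (isClopen_range_section f t.1 t.2), key _ (isClopen_range_section f s.1 s.2)]
    constructor <;> rintro ⟨Z, hZ, hx⟩
    · exact ⟨Z, (Set.ext_iff.1 h Z).2 hZ, hx⟩
    · exact ⟨Z, (Set.ext_iff.1 h Z).1 hZ, hx⟩))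
  exact Set.finite_coe_iff.1 (Finite.of_injective φ hφ)

omit hs in
theorem finite_homs {S : Scheme.{u}} {X Y : Scheme.{u}} [IsNoetherian Y]
    (π : X ⟶ S) [FormallyUnramified π] [LocallyOfFiniteType π] [QuasiCompact π] [IsSeparated π]
    (h : Y ⟶ S) : Set.Finite {f : Y ⟶ X | f ≫ π = h} := by
  haveI : IsLocallyNoetherian (pullback h π) := LocallyOfFiniteType.isLocallyNoetherian (pullback.fst h π)
  haveI : CompactSpace (pullback h π : Scheme.{u}) :=
    QuasiCompact.compactSpace_of_compactSpace (pullback.fst h π)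
  haveI : IsNoetherian (pullback h π) := {}
  haveI : FormallyUnramified (pullback.fst h π) :=
    MorphismProperty.pullback_fst _ _ ‹FormallyUnramified π›
  have hfin := finite_sections (pullback.fst h π)
  refine Set.finite_coe_iff.1 (@Finite.of_injective _ _ hfin.to_subtype
    (fun g : {f : Y ⟶ X // f ≫ π = h} => ⟨pullback.lift (𝟙 Y) g.1 (by rw [Category.id_comp, g.2]),
      pullback.lift_fst _ _ _⟩) fun a b e => Subtype.ext ?_)
  have := congrArg (fun z => z.1 ≫ pullback.snd h π) e
  exact (pullback.lift_snd _ _ _).symm.trans (this.trans (pullback.lift_snd _ _ _))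

omit hs in
theorem sections_equiv_components [ConnectedSpace Y] :
    ∃ e : {s : Y ⟶ X // s ≫ f = 𝟙 Y} ≃
        {U : X.Opens // (∃ x : X, (U : Set X) = connectedComponent x) ∧ IsIso (U.ι ≫ f)},
      ∀ s : {s : Y ⟶ X // s ≫ f = 𝟙 Y}, ((e s).1 : Set X) = Set.range s.1.base := by
  let toF : {s : Y ⟶ X // s ≫ f = 𝟙 Y} →
      {U : X.Opens // (∃ x : X, (U : Set X) = connectedComponent x) ∧ IsIso (U.ι ≫ f)} := fun s =>
    ⟨⟨Set.range s.1.base, (isClopen_range_section f s.1 s.2).2⟩, by
      obtain ⟨y⟩ := (inferInstance : Nonempty Y)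
      refine ⟨⟨s.1.base y, ?_⟩, ?_⟩
      · exact subset_antisymm
          ((isPreconnected_range s.1.continuous).subset_connectedComponent ⟨y, rfl⟩)
          ((isClopen_range_section f s.1 s.2).connectedComponent_subset ⟨y, rfl⟩)
      · haveI := isOpenImmersion_section f s.1 s.2
        haveI : IsIso (s.1.isoOpensRange.hom ≫ s.1.opensRange.ι ≫ f) := by
          rw [Scheme.Hom.isoOpensRange_hom_ι_assoc, s.2]; infer_instance
        exact IsIso.of_isIso_comp_left s.1.isoOpensRange.hom (s.1.opensRange.ι ≫ f)⟩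
  have hbij : Function.Bijective toF := by
    refine ⟨fun s t h => Subtype.ext (section_ext f s.2 t.2
      (congrArg (fun U => (U.1 : Set X)) h).symm), fun U => ?_⟩
    obtain ⟨U, hU, hiso⟩ := U
    refine ⟨⟨inv (U.ι ≫ f) ≫ U.ι, by rw [Category.assoc, IsIso.inv_hom_id]⟩,
      Subtype.ext (Opens.ext ?_)⟩
    change Set.range (inv (U.ι ≫ f) ≫ U.ι).base = (U : Set X)
    rw [Scheme.Hom.comp_base, TopCat.coe_comp, (inv (U.ι ≫ f)).surjective.range_comp,
      Scheme.Opens.range_ι]
  exact ⟨Equiv.ofBijective toF hbij, fun s => rfl⟩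

end GrothLib.EtBasicB
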