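import Groth.Prelude.Def_EtBase
import Groth.Agent.Lib.EtSite.Sections
import Groth.Agent.Lib.Hensel.FiniteEtaleLift
import Mathlib.AlgebraicGeometry.FunctionField
import Mathlib.AlgebraicGeometry.SpreadingOut
import Mathlib.AlgebraicGeometry.Morphisms.FlatMono
import Mathlib.AlgebraicGeometry.Morphisms.LocalIso
import Mathlib.AlgebraicGeometry.Morphisms.Separated
import Mathlib.RingTheory.Polynomial.GaussLemma
import Mathlib.FieldTheory.IsSepClosed

/-!
# Normal schemes with separably closed function field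

Their local rings are strictly henselian, separated etale schemes over them are disjoint unions of
open subschemes, and so are affine etale schemes over their closed subschemes in the affine case.
-/

universe u

open CategoryTheory CategoryTheory.Limits AlgebraicGeometry Polynomial

namespace GrothLib.EtBasicB

section Algebra

variable {R : Type u} [CommRing R] [IsDomain R] [IsIntegrallyClosed R]

/-- A monic polynomial of positive degree has a monic factor of degree one or of derivative zero. -/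
theorem exists_factor (K : Type u) [Field K] [Algebra R K] [IsFractionRing R K] [IsSepClosed K] (f : R[X]) (hf : f.Monic) (hd : f.natDegree ≠ 0) :
    ∃ g h : R[X], f = g * h ∧ g.Monic ∧ g.natDegree ≠ 0 ∧ (g.natDegree = 1 ∨ derivative g = 0) := by
  have hdK : (f.map (algebraMap R K)).natDegree ≠ 0 := by rwa [hf.natDegree_map]
  obtain ⟨g, hg, hgi, hgd⟩ := exists_monic_irreducible_factor _
    (not_isUnit_of_natDegree_pos _ (Nat.pos_of_ne_zero hdK))
  obtain ⟨g₀, hg₀⟩ := IsIntegrallyClosed.eq_map_mul_C_of_dvd K hf hgd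
  rw [hg.leadingCoeff, map_one, mul_one] at hg₀
  have hinj := IsFractionRing.injective R K
  have hg₀m : g₀.Monic := Polynomial.monic_of_injective hinj (hg₀ ▸ hg)
  obtain ⟨h, hh⟩ := (Polynomial.map_dvd_map (algebraMap R K) hinj hg₀m).1 (hg₀ ▸ hgd)
  refine ⟨g₀, h, hh, hg₀m, ?_, ?_⟩
  · rw [← hg₀m.natDegree_map (algebraMap R K), hg₀]
    exact hgi.natDegree_pos.ne'
  · by_cases hder : derivative g = 0
    · exact Or.inr (Polynomial.map_injective _ hinj (by rw [← derivative_map, hg₀, hder, Polynomial.map_zero]))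
    · refine Or.inl ?_
      rw [← hg₀m.natDegree_map (algebraMap R K), hg₀]
      exact natDegree_eq_of_degree_eq_some
        (IsSepClosed.degree_eq_one_of_irreducible _ hgi ((separable_iff_derivative_ne_zero hgi).2 hder))

theorem exists_lift_root (K : Type u) [Field K] [Algebra R K] [IsFractionRing R K] [IsSepClosed K] {k : Type u} [Field k] (φ : R →+* k) :
    ∀ (n : ℕ) (f : R[X]), f.natDegree = n → f.Monic → ∀ a₀ : k,
      f.eval₂ φ a₀ = 0 → f.derivative.eval₂ φ a₀ ≠ 0 → ∃ a : R, f.IsRoot a ∧ φ a = a₀ := by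
  intro n
  induction n using Nat.strong_induction_on with | _ n ih
  intro f hn hf a₀ h1 h2
  have hd : f.natDegree ≠ 0 := by
    intro hd
    rw [hf.natDegree_eq_zero.1 hd, eval₂_one] at h1
    exact one_ne_zero h1
  obtain ⟨g, h, rfl, hg, hgd, hgg⟩ := exists_factor K f hf hd
  have hh : h.Monic := hg.of_mul_monic_left hf
  rw [eval₂_mul] at h1
  rw [derivative_mul, eval₂_add, eval₂_mul, eval₂_mul] at h2
  by_cases hga : g.eval₂ φ a₀ = 0
  · rw [hga, zero_mul, add_zero] at h2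
    rcases hgg with hg1 | hg0
    · obtain ⟨c, hc⟩ : ∃ c, g = X + C c := ⟨g.coeff 0, hg.eq_X_add_C hg1⟩
      rw [hc, eval₂_add, eval₂_X, eval₂_C, ← eq_neg_iff_add_eq_zero] at hga
      exact ⟨-c, by simp [IsRoot, hc], by rw [map_neg, hga]⟩
    · rw [hg0, eval₂_zero, zero_mul] at h2
      exact absurd rfl h2
  · have h1' := (mul_eq_zero.1 h1).resolve_left hga
    rw [h1', mul_zero, zero_add] at h2
    obtain ⟨a, ha, ha'⟩ := ih h.natDegree (by rw [← hn, hg.natDegree_mul hh]; omega) h rfl hh a₀ h1'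
      (right_ne_zero_of_mul h2)
    exact ⟨a, by simp [IsRoot, IsRoot.eq_zero ha], ha'⟩

/-- An integrally closed local domain with separably closed fraction field is strictly henselian. -/
theorem isStrictlyHenselian_of_sepClosed (R K : Type u) [CommRing R] [IsDomain R] [IsLocalRing R]
    [IsIntegrallyClosed R] [Field K] [Algebra R K] [IsFractionRing R K] [IsSepClosed K] :
    EtCoh.IsStrictlyHenselianLocalRing R := by
  have hH : HenselianLocalRing R := ((HenselianLocalRing.TFAE R).out 2 0 rfl rfl).1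
    fun {k} _ φ _ f hf a₀ h1 h2 => exists_lift_root K φ _ f rfl hf a₀ h1 h2
  refine ⟨hH, IsSepClosed.of_exists_root _ fun p hp hpi hps => ?_⟩
  obtain ⟨f, hfp, hfd, hf⟩ := lifts_and_degree_eq_and_monic
    (mem_lifts_of_surjective IsLocalRing.residue_surjective p) hp
  obtain ⟨g, h, rfl, hg, hgd, hgg⟩ := exists_factor K f hf (by
    rw [natDegree_eq_natDegree hfd]; exact hpi.natDegree_pos.ne')
  rw [Polynomial.map_mul] at hfp
  rcases hgg with hg1 | hg0
  · obtain ⟨c, hc⟩ : ∃ c, g = X + C c := ⟨g.coeff 0, hg.eq_X_add_C hg1⟩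
    exact ⟨IsLocalRing.residue R (-c), by simp [← hfp, hc, IsRoot]⟩
  · exfalso
    have hs := Separable.of_mul_left (hfp.symm ▸ hps)
    rw [separable_def, derivative_map, hg0, Polynomial.map_zero, isCoprime_zero_right] at hs
    exact hgd (by rw [← hg.natDegree_map (IsLocalRing.residue R)]; exact natDegree_eq_zero_of_isUnit hs)

end Algebra

section Scheme

theorem stalk_strictlyHenselian (X : Scheme.{u}) [IsIntegral X]
    (hN : ∀ x : X, IsIntegrallyClosed (X.presheaf.stalk x)) [IsSepClosed X.functionField] (x : X) :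
    EtCoh.IsStrictlyHenselianLocalRing (X.presheaf.stalk x) :=
  haveI := hN x
  isStrictlyHenselian_of_sepClosed _ X.functionField

/-- Over an integral scheme with strictly henselian local rings, etale maps are local isomorphisms. -/
theorem isLocalIso_of_etale {U X : Scheme.{u}} [IsIntegral X]
    (hX : ∀ x : X, EtCoh.IsStrictlyHenselianLocalRing (X.presheaf.stalk x)) (g : U ⟶ X) [Etale g] :
    IsLocalIso g := by
  refine ⟨fun u => ?_⟩
  obtain ⟨hH, hS⟩ := hX (g.base u)
  let ρ : X.presheaf.stalk (g.base u) ⟶ U.residueField u := g.stalkMap u ≫ U.residue u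
  have hρ : RingHom.ker ρ.hom = IsLocalRing.maximalIdeal (X.presheaf.stalk (g.base u)) := by
    ext a
    change IsLocalRing.residue _ ((g.stalkMap u).hom a) = 0 ↔ _
    rw [IsLocalRing.residue_eq_zero_iff]
    exact map_mem_nonunits_iff (g.stalkMap u).hom a
  have hsq : U.fromSpecResidueField u ≫ g = Spec.map ρ ≫ X.fromSpecStalk (g.base u) := by
    rw [Spec.map_comp, Category.assoc, Scheme.SpecMap_stalkMap_fromSpecStalk, ← Category.assoc]
    rfl
  let t : Spec (U.residueField u) ⟶ pullback g (X.fromSpecStalk (g.base u)) :=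
    pullback.lift (U.fromSpecResidueField u) (Spec.map ρ) hsq
  letI := hH
  letI := hS
  obtain ⟨s, hs, hst⟩ := @GrothLib.EtSite.exists_section _ _ hH hS _ (pullback.snd g (X.fromSpecStalk (g.base u))) _ _ _
    ρ.hom hρ t (pullback.lift_snd _ _ _)
  let φ : Spec (X.presheaf.stalk (g.base u)) ⟶ U := s ≫ pullback.fst _ _
  have hφ : φ ≫ g = X.fromSpecStalk (g.base u) ≫ 𝟙 X := by
    rw [Category.comp_id, Category.assoc, pullback.condition, ← Category.assoc]
    exact (congrArg (· ≫ _) hs).trans (Category.id_comp _)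
  have hφu : φ.base (IsLocalRing.closedPoint _) = u := by
    have h1 : Spec.map ρ ≫ φ = U.fromSpecResidueField u := by
      rw [← Category.assoc]
      exact (congrArg (· ≫ _) hst).trans (pullback.lift_fst _ _ _)
    have hc : (Spec.map ρ).base (IsLocalRing.closedPoint (U.residueField u)) =
        IsLocalRing.closedPoint (X.presheaf.stalk (g.base u)) := by
      apply PrimeSpectrum.ext
      refine Eq.trans ?_ hρ
      exact congrArg (Ideal.comap ρ.hom) (Ideal.eq_bot_of_prime _)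
    rw [← hc, ← Scheme.Hom.comp_apply, h1]
    exact Scheme.fromSpecResidueField_apply u _
  obtain ⟨W, hxW, σ, hσ, hσg⟩ := spread_out_of_isGermInjective' (𝟙 X) g φ hφ
  rw [Category.comp_id] at hσg
  haveI : IsOpenImmersion (σ ≫ g) := hσg ▸ inferInstance
  haveI : Etale σ := MorphismProperty.of_postcomp (W := @Etale) (W' := @Etale) σ g inferInstance inferInstance
  haveI : Mono σ := mono_of_mono σ g
  haveI : IsOpenImmersion σ := IsOpenImmersion.of_flat_of_mono σ
  refine ⟨σ.opensRange, ?_, ?_⟩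
  · rw [hσ, Scheme.Hom.comp_apply] at hφu
    exact ⟨_, hφu⟩
  · rw [show σ.opensRange.ι = σ.isoOpensRange.inv ≫ σ from (Scheme.Hom.isoOpensRange_inv_comp σ).symm,
      Category.assoc, hσg]
    infer_instance

/-- A local isomorphism injective on an open subscheme is an open immersion there. -/
theorem isOpenImmersion_of_injective {U X : Scheme.{u}} (g : U ⟶ X) [IsLocalIso g] (W : U.Opens)
    {O : U → U.Opens} (hOu : ∀ u, u ∈ O u) [∀ u, IsOpenImmersion ((O u).ι ≫ g)]
    (hinj : ∀ w₁ w₂ : U, w₁ ∈ W → w₂ ∈ W → g.base w₁ = g.base w₂ → w₁ = w₂) :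
    IsOpenImmersion (W.ι ≫ g) := by
  haveI : IsLocalIso (W.ι ≫ g) := IsZariskiLocalAtSource.comp ‹IsLocalIso g› W.ι
  haveI : Flat (W.ι ≫ g) := IsLocalIso.le_of_isZariskiLocalAtSource @Flat _ _ _ inferInstance
  haveI : LocallyOfFinitePresentation (W.ι ≫ g) :=
    haveI : MorphismProperty.ContainsIdentities (@LocallyOfFinitePresentation : MorphismProperty Scheme.{u}) :=
      ⟨fun _ => inferInstance⟩
    IsLocalIso.le_of_isZariskiLocalAtSource @LocallyOfFinitePresentation _ _ _ inferInstance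
  have hst : ∀ u, IsIso (g.stalkMap u) := fun u => by
    let a : ((O u).toScheme : Scheme) := ⟨u, hOu u⟩
    have e := Scheme.Hom.stalkMap_comp (O u).ι g a
    have i₁ := (IsOpenImmersion.iff_isIso_stalkMap.1 (inferInstance : IsOpenImmersion ((O u).ι ≫ g))).2 a
    have i₂ := (IsOpenImmersion.iff_isIso_stalkMap.1 (inferInstance : IsOpenImmersion (O u).ι)).2 a
    rw [e] at i₁
    exact @IsIso.of_isIso_comp_right _ _ _ _ _ _ _ i₂ i₁
  haveI : ∀ w, IsIso ((W.ι ≫ g).stalkMap w) := fun w => by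
    have i₂ := (IsOpenImmersion.iff_isIso_stalkMap.1 (inferInstance : IsOpenImmersion W.ι)).2 w
    rw [Scheme.Hom.stalkMap_comp]
    exact @IsIso.comp_isIso _ _ _ _ _ _ _ (hst _) i₂
  refine IsOpenImmersion.of_isIso_stalkMap _ (Topology.IsOpenEmbedding.of_continuous_injective_isOpenMap
    (W.ι ≫ g).continuous (fun a b h => Subtype.ext (hinj a.1 b.1 a.2 b.2 h)) (W.ι ≫ g).isOpenMap)

/-- A separated local isomorphism onto an integral scheme is, on each irreducible component of the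
source, an open immersion. -/
theorem exists_opens_partition {U X : Scheme.{u}} [IsIntegral X] (g : U ⟶ X) [IsLocalIso g]
    [IsSeparated g] :
    ∃ (ι : Type u) (W : ι → U.Opens), (∀ i, IsOpenImmersion ((W i).ι ≫ g)) ∧
      (∀ i j, i ≠ j → Disjoint (W i : Set U) (W j)) ∧ (∀ u : U, ∃ i, u ∈ W i) ∧
      ∀ i, (W i : Set U).Nonempty := by
  choose O hOu hO using IsLocalIso.exists_isOpenImmersion (f := g)
  let η := genericPoint X
  -- each neighbourhood contains a unique point over the generic point, which is generic in it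
  have hgen : ∀ u, ∃ p : U, p ∈ O u ∧ g.base p = η ∧ ∀ v ∈ O u, p ⤳ v := by
    intro u
    haveI := hO u
    obtain ⟨q, hq⟩ : η ∈ ((O u).ι ≫ g).opensRange :=
      ((genericPoint_spec X).mem_open_set_iff ((O u).ι ≫ g).opensRange.isOpen).2
        ⟨_, trivial, ⟨⟨u, hOu u⟩, rfl⟩⟩
    refine ⟨(O u).ι.base q, q.2, hq, fun v hv => ?_⟩
    have hs : q ⤳ (⟨v, hv⟩ : O u) := by
      rw [← ((O u).ι ≫ g).isOpenEmbedding.isInducing.specializes_iff, hq]
      exact genericPoint_specializes _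
    exact hs.map (O u).ι.continuous
  choose p hpO hpη hp using hgen
  have huniq : ∀ u q, q ∈ O u → g.base q = η → q = p u := by
    intro u q hq hqη
    haveI := hO u
    have : (⟨q, hq⟩ : O u) = ⟨p u, hpO u⟩ :=
      ((O u).ι ≫ g).injective (by
        change g.base q = g.base (p u)
        rw [hqη, hpη])
    exact congrArg Subtype.val this
  let W : {q : U // g.base q = η} → U.Opens := fun q =>
    ⟨{v | q.1 ⤳ v}, isOpen_iff_forall_mem_open.2 fun v (hv : q.1 ⤳ v) =>
      ⟨O v, fun w hw => by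
        rw [Set.mem_setOf_eq, huniq v q.1 (hv.mem_open (O v).2 (hOu v)) q.2]
        exact hp v w hw, (O v).2, hOu v⟩⟩
  have hdisj : ∀ i j v, v ∈ W i → v ∈ W j → i = j := fun i j v (hi : i.1 ⤳ v) (hj : j.1 ⤳ v) =>
    Subtype.ext ((huniq v i.1 (hi.mem_open (O v).2 (hOu v)) i.2).trans
      (huniq v j.1 (hj.mem_open (O v).2 (hOu v)) j.2).symm)
  refine ⟨_, W, fun q => ?_, fun i j hij => Set.disjoint_left.2 fun v hi hj => hij (hdisj i j v hi hj),
    fun u => ⟨⟨p u, hpη u⟩, hp u u (hOu u)⟩, fun q => ⟨q.1, specializes_refl q.1⟩⟩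
  refine isOpenImmersion_of_injective g (W q) (O := O) hOu (fun w₁ w₂ h₁ h₂ hw => ?_)
  -- the two local sections agree on a dense open subset
  haveI := hO w₁
  haveI := hO w₂
  let f₁ := (O w₁).ι ≫ g
  let f₂ := (O w₂).ι ≫ g
  let V : X.Opens := f₁.opensRange ⊓ f₂.opensRange
  have hxV : g.base w₁ ∈ V := ⟨⟨⟨w₁, hOu w₁⟩, rfl⟩, hw ▸ ⟨⟨w₂, hOu w₂⟩, rfl⟩⟩
  have hr₁ : Set.range V.ι.base ⊆ Set.range f₁.base := by
    rw [Scheme.Opens.range_ι]; exact fun z hz => hz.1
  have hr₂ : Set.range V.ι.base ⊆ Set.range f₂.base := by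
    rw [Scheme.Opens.range_ι]; exact fun z hz => hz.2
  let σ₁ : (V : Scheme.{u}) ⟶ U := IsOpenImmersion.lift f₁ V.ι hr₁ ≫ (O w₁).ι
  let σ₂ : (V : Scheme.{u}) ⟶ U := IsOpenImmersion.lift f₂ V.ι hr₂ ≫ (O w₂).ι
  have hσ₁ : σ₁ ≫ g = V.ι := by rw [Category.assoc]; exact IsOpenImmersion.lift_fac _ _ _
  have hσ₂ : σ₂ ≫ g = V.ι := by rw [Category.assoc]; exact IsOpenImmersion.lift_fac _ _ _
  let D : U.Opens := O w₁ ⊓ O w₂
  have hD₁ : U.homOfLE (inf_le_left : D ≤ O w₁) ≫ f₁ = D.ι ≫ g := by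
    rw [← Category.assoc, Scheme.homOfLE_ι]
  have hD₂ : U.homOfLE (inf_le_right : D ≤ O w₂) ≫ f₂ = D.ι ≫ g := by
    rw [← Category.assoc, Scheme.homOfLE_ι]
  have hDV : Set.range (D.ι ≫ g).base ⊆ Set.range V.ι.base := by
    rw [Scheme.Opens.range_ι]
    rintro _ ⟨z, rfl⟩
    exact ⟨⟨⟨z.1, z.2.1⟩, rfl⟩, ⟨⟨z.1, z.2.2⟩, rfl⟩⟩
  let k : (D : Scheme.{u}) ⟶ V := IsOpenImmersion.lift V.ι (D.ι ≫ g) hDV
  have hk : k ≫ V.ι = D.ι ≫ g := IsOpenImmersion.lift_fac _ _ _
  have hk₁ : k ≫ σ₁ = D.ι := by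
    rw [← Scheme.homOfLE_ι U (inf_le_left : D ≤ O w₁), ← Category.assoc]
    congr 1
    rw [← cancel_mono f₁, Category.assoc, IsOpenImmersion.lift_fac, hk, hD₁]
  have hk₂ : k ≫ σ₂ = D.ι := by
    rw [← Scheme.homOfLE_ι U (inf_le_right : D ≤ O w₂), ← Category.assoc]
    congr 1
    rw [← cancel_mono f₂, Category.assoc, IsOpenImmersion.lift_fac, hk, hD₂]
  haveI : IsOpenImmersion (k ≫ V.ι) := by rw [hk, ← hD₁]; infer_instance
  haveI : IsOpenImmersion k := IsOpenImmersion.of_comp k V.ι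
  haveI : IsIntegral (V : Scheme.{u}) := haveI : Nonempty V := ⟨⟨_, hxV⟩⟩; inferInstance
  haveI : IsDominant k := ⟨IsOpen.dense k.isOpenEmbedding.isOpen_range
    ⟨_, ⟨q.1, h₁.mem_open (O w₁).2 (hOu w₁), h₂.mem_open (O w₂).2 (hOu w₂)⟩, rfl⟩⟩
  have he : σ₁ = σ₂ := ext_of_isDominant_of_isSeparated g (hσ₁.trans hσ₂.symm) k (hk₁.trans hk₂.symm)
  have e₁ : σ₁.base ⟨_, hxV⟩ = w₁ := by
    have : (IsOpenImmersion.lift f₁ V.ι hr₁).base ⟨_, hxV⟩ = ⟨w₁, hOu w₁⟩ := f₁.injective (by
      rw [← Scheme.Hom.comp_apply, IsOpenImmersion.lift_fac]; rfl)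
    rw [Scheme.Hom.comp_apply, this]; rfl
  have e₂ : σ₂.base ⟨_, hxV⟩ = w₂ := by
    have : (IsOpenImmersion.lift f₂ V.ι hr₂).base ⟨_, hxV⟩ = ⟨w₂, hOu w₂⟩ := f₂.injective (by
      rw [← Scheme.Hom.comp_apply, IsOpenImmersion.lift_fac]; exact hw)
    rw [Scheme.Hom.comp_apply, this]; rfl
  rw [← e₁, ← e₂, he]

/-- A family of disjoint covering opens, on each of which `g` is an open immersion, exhibits the
source as a disjoint union of open subschemes of the target. -/
theorem exists_iso_sigma {U X : Scheme.{u}} (g : U ⟶ X) {ι : Type u} (W : ι → U.Opens)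
    [∀ i, IsOpenImmersion ((W i).ι ≫ g)]
    (hd : ∀ i j, i ≠ j → Disjoint (W i : Set U) (W j)) (hc : ∀ u : U, ∃ i, u ∈ W i) :
    ∃ (V : ι → X.Opens) (e : (∐ fun i => (V i : Scheme.{u})) ≅ U),
      ∀ i, Sigma.ι (fun i => (V i : Scheme.{u})) i ≫ e.hom ≫ g = (V i).ι := by
  let V : ι → X.Opens := fun i => ((W i).ι ≫ g).opensRange
  let f : ∀ i, (V i : Scheme.{u}) ⟶ U := fun i => ((W i).ι ≫ g).isoOpensRange.inv ≫ (W i).ι
  have hf : ∀ i, (f i).opensRange = W i := fun i => by
    simp only [f, Scheme.Hom.opensRange_comp_of_isIso, Scheme.Opens.opensRange_ι]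
  obtain ⟨hcol⟩ := nonempty_isColimit_cofanMk_of f
    (by
      rw [eq_top_iff]
      rintro u -
      obtain ⟨i, hi⟩ := hc u
      exact TopologicalSpace.Opens.mem_iSup.2 ⟨i, (hf i).ge hi⟩)
    (fun i j hij => by
      change Disjoint (f i).opensRange (f j).opensRange
      rw [hf, hf]
      exact disjoint_iff.2 (TopologicalSpace.Opens.ext (by
        simpa [Set.disjoint_iff_inter_eq_empty] using hd i j hij)))
  refine ⟨V, (coproductIsCoproduct _).coconePointUniqueUpToIso hcol, fun i => ?_⟩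
  rw [← Category.assoc]
  erw [IsColimit.comp_coconePointUniqueUpToIso_hom (coproductIsCoproduct _) hcol ⟨i⟩]
  change (((W i).ι ≫ g).isoOpensRange.inv ≫ (W i).ι) ≫ g = _
  rw [Category.assoc, Scheme.Hom.isoOpensRange_inv_comp]

theorem exists_sigma_of_etale {U X : Scheme.{u}} [IsIntegral X]
    (hN : ∀ x : X, IsIntegrallyClosed (X.presheaf.stalk x)) [IsSepClosed X.functionField]
    (g : U ⟶ X) [Etale g] [IsSeparated g] :
    ∃ (ι : Type u) (V : ι → X.Opens) (e : (∐ fun i => (V i : Scheme.{u})) ≅ U),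
      ∀ i, Sigma.ι (fun i => (V i : Scheme.{u})) i ≫ e.hom ≫ g = (V i).ι := by
  haveI := isLocalIso_of_etale (fun x => stalk_strictlyHenselian X hN x) g
  obtain ⟨ι, W, hW, hd, hc, -⟩ := exists_opens_partition g
  obtain ⟨V, e, he⟩ := exists_iso_sigma g W hd hc
  exact ⟨ι, V, e, he⟩

/-- An affine etale scheme over a closed subscheme of an affine scheme is a closed subscheme of an
affine etale scheme over it. -/
theorem exists_closed_lift {V Z X : Scheme.{u}} [IsAffine X] [IsAffine V] (i : Z ⟶ X)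
    [IsClosedImmersion i] (φ : V ⟶ Z) [Etale φ] :
    ∃ (U : Scheme.{u}) (q : U ⟶ X) (k : V ⟶ U), IsAffine U ∧ Etale q ∧ IsClosedImmersion k ∧
      k ≫ q = φ ≫ i := by
  obtain ⟨hZ, hi⟩ := (IsClosedImmersion.isAffine_surjective_of_isAffine (f := i))
  let I := RingHom.ker i.appTop.hom
  let ρ := RingHom.quotientKerEquivOfSurjective hi
  letI : Algebra (Γ(X, ⊤) ⧸ I) Γ(V, ⊤) := (φ.appTop.hom.comp ρ.toRingHom).toAlgebra
  letI : Algebra Γ(X, ⊤) Γ(V, ⊤) := (φ.appTop.hom.comp i.appTop.hom).toAlgebra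
  haveI : IsScalarTower Γ(X, ⊤) (Γ(X, ⊤) ⧸ I) Γ(V, ⊤) := IsScalarTower.of_algebraMap_eq fun r => rfl
  haveI : Algebra.Etale (Γ(X, ⊤) ⧸ I) Γ(V, ⊤) := RingHom.etale_algebraMap.1
    (RingHom.Etale.stableUnderComposition ρ.toRingHom φ.appTop.hom
      (RingHom.Etale.of_bijective ρ.bijective)
      (HasRingHomProperty.appTop (P := @Etale) φ inferInstance))
  obtain ⟨T, _, _, f, hT, hf, -⟩ :=
    GrothLib.Hensel.exists_etale_lift I (Γ(V, ⊤) : Type u)
  haveI : Etale (Spec.map (CommRingCat.ofHom (algebraMap Γ(X, ⊤) T))) := by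
    rw [HasRingHomProperty.Spec_iff (P := @Etale)]
    exact RingHom.etale_algebraMap.2 hT
  haveI : IsClosedImmersion (Spec.map (CommRingCat.ofHom f.toRingHom)) :=
    IsClosedImmersion.spec_of_surjective _ hf
  refine ⟨Spec (CommRingCat.of T), Spec.map (CommRingCat.ofHom (algebraMap Γ(X, ⊤) T)) ≫ X.isoSpec.inv,
    V.isoSpec.hom ≫ Spec.map (CommRingCat.ofHom f.toRingHom), inferInstance, inferInstance,
    inferInstance, ?_⟩
  have e1 : CommRingCat.ofHom (algebraMap Γ(X, ⊤) T) ≫ CommRingCat.ofHom f.toRingHom =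
      (φ ≫ i).appTop := by
    rw [Scheme.Hom.comp_appTop]
    ext r
    exact f.commutes r
  rw [Category.assoc]
  slice_lhs 2 3 => rw [← Spec.map_comp, e1]
  rw [Scheme.isoSpec_hom_naturality_assoc, Iso.hom_inv_id, Category.comp_id]

theorem exists_sigma_of_closed {V Z X : Scheme.{u}} [IsAffine X] [IsIntegral X]
    (hN : ∀ x : X, IsIntegrallyClosed (X.presheaf.stalk x)) [IsSepClosed X.functionField]
    (i : Z ⟶ X) [IsClosedImmersion i] (φ : V ⟶ Z) [Etale φ] [IsAffine V] :
    ∃ (ι : Type u) (_ : Finite ι) (W : ι → Z.Opens) (e : (∐ fun k => (W k : Scheme.{u})) ≅ V),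
      ∀ k, Sigma.ι (fun k => (W k : Scheme.{u})) k ≫ e.hom ≫ φ = (W k).ι := by
  classical
  obtain ⟨U, q, k, hU, hq, hk, hkq⟩ := exists_closed_lift i φ
  haveI : IsSeparated q := inferInstance
  haveI := isLocalIso_of_etale (fun x => stalk_strictlyHenselian X hN x) q
  obtain ⟨ι, W, hW, hd, hc, hne⟩ := exists_opens_partition q
  obtain ⟨S, hS⟩ := isCompact_univ.elim_finite_subcover (fun j => (W j : Set U)) (fun j => (W j).2)
    (fun u _ => Set.mem_iUnion.2 (hc u))
  haveI : ∀ j : S, IsOpenImmersion ((k ⁻¹ᵁ W j.1).ι ≫ φ) := fun j => by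
    haveI : Mono (((k ⁻¹ᵁ W j.1).ι ≫ φ) ≫ i) := by
      rw [Category.assoc, ← hkq, ← morphismRestrict_ι_assoc]
      infer_instance
    haveI : Mono ((k ⁻¹ᵁ W j.1).ι ≫ φ) := mono_of_mono _ i
    exact IsOpenImmersion.of_flat_of_mono _
  obtain ⟨W', e, he⟩ := exists_iso_sigma φ (fun j : S => k ⁻¹ᵁ W j.1)
    (fun a b hab => (hd a.1 b.1 fun h => hab (Subtype.ext h)).preimage k.base)
    (fun v => by
      obtain ⟨j, hj, hv⟩ := Set.mem_iUnion₂.1 (hS (Set.mem_univ (k.base v)))
      exact ⟨⟨j, hj⟩, hv⟩)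
  exact ⟨S, inferInstance, W', e, he⟩

/-- A surjective finite etale map to a closed subscheme of such a scheme has a section. -/
theorem exists_section_of_finite {V Z X : Scheme.{u}} [IsAffine X] [IsIntegral X]
    (hN : ∀ x : X, IsIntegrallyClosed (X.presheaf.stalk x)) [IsSepClosed X.functionField]
    (i : Z ⟶ X) [IsClosedImmersion i] (φ : V ⟶ Z) [Etale φ] [IsFinite φ] [Surjective φ] :
    ∃ s : Z ⟶ V, s ≫ φ = 𝟙 Z := by
  classical
  haveI : IsAffine Z := isAffine_of_isAffineHom i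
  haveI : IsAffine V := isAffine_of_isAffineHom φ
  obtain ⟨ι, _, W, e, he⟩ := exists_sigma_of_closed hN i φ
  obtain ⟨n, ⟨r⟩⟩ := Finite.exists_equiv_fin ι
  let c : ∀ k, (W k : Scheme.{u}) ⟶ V := fun k => Sigma.ι (fun k => (W k : Scheme.{u})) k ≫ e.hom
  have hc : ∀ k, c k ≫ φ = (W k).ι := fun k => by rw [Category.assoc]; exact he k
  -- each `W k` is closed as well as open
  have hcl : ∀ k, IsClosed (W k : Set Z) := fun k => by
    have h1 : IsClosed (Set.range (c k).base) := by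
      rw [← isOpen_compl_iff, show (Set.range (c k).base)ᶜ = ⋃ l ∈ {l | l ≠ k}, Set.range (c l).base from ?_]
      · exact isOpen_biUnion fun l _ => (c l).isOpenEmbedding.isOpen_range
      ext v
      obtain ⟨v, rfl⟩ := e.hom.surjective v
      obtain ⟨l, w, rfl⟩ := (sigmaOpenCover fun k => (W k : Scheme.{u})).exists_eq v
      have huniq : ∀ m, e.hom.base ((Sigma.ι (fun k => (W k : Scheme.{u})) l).base w) ∈ Set.range (c m).base ↔ m = l := by
        refine fun m => ⟨fun ⟨w', hw'⟩ => ?_, fun hm => by subst hm; exact ⟨w, rfl⟩⟩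
        by_contra hml
        have hw := e.hom.injective hw'
        exact (disjoint_opensRange_sigmaι (fun k => (W k : Scheme.{u})) m l hml).le_bot
          (show (Sigma.ι (fun k => (W k : Scheme.{u})) m).base w' ∈ _ ⊓ _ from ⟨⟨w', rfl⟩, ⟨w, hw.symm⟩⟩)
      refine ⟨fun h => Set.mem_iUnion₂.2 ⟨l, fun hlk => h ((huniq k).2 hlk.symm), (huniq l).2 rfl⟩,
        fun h hk => ?_⟩
      obtain ⟨m, hm, hmem⟩ := Set.mem_iUnion₂.1 h
      exact hm (((huniq m).1 hmem).trans ((huniq k).1 hk).symm)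
    have h2 := φ.isClosedMap _ h1
    rwa [← Set.range_comp, show φ.base ∘ (c k).base = (W k).ι.base from
      funext fun w => by rw [← hc k]; rfl, Scheme.Opens.range_ι] at h2
  -- the first `W k` containing a point
  let S : Fin n → Z.Opens := fun j => ⟨(W (r.symm j) : Set Z) \ ⋃ l : {l // l < j}, (W (r.symm l.1) : Set Z),
    (W (r.symm j)).2.sdiff (isClosed_iUnion_of_finite fun l => hcl _)⟩
  have hS : ∀ z : Z, ∃ j, z ∈ S j := by
    intro z
    obtain ⟨v, rfl⟩ := φ.surjective z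
    obtain ⟨v, rfl⟩ := e.hom.surjective v
    obtain ⟨l, w, rfl⟩ := (sigmaOpenCover fun k => (W k : Scheme.{u})).exists_eq v
    have hl : φ.base (e.hom.base ((Sigma.ι (fun k => (W k : Scheme.{u})) l).base w)) ∈ W l := by
      have := congrArg (fun m : (W l : Scheme.{u}) ⟶ Z => m.base w) (he l)
      exact this ▸ w.2
    let P : Fin n → Prop := fun j => φ.base (e.hom.base ((Sigma.ι (fun k => (W k : Scheme.{u})) l).base w)) ∈ W (r.symm j)
    have hP : ∃ j, P j := ⟨r l, by simpa [P] using hl⟩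
    refine ⟨Fin.find P hP, Fin.find_spec hP, fun h => ?_⟩
    obtain ⟨l', hl'⟩ := Set.mem_iUnion.1 h
    exact Fin.find_min hP l'.2 hl'
  have hSd : ∀ a b, a < b → ∀ z, z ∈ S a → z ∉ S b := fun a b hab z ha hb =>
    hb.2 (Set.mem_iUnion.2 ⟨⟨a, hab⟩, ha.1⟩)
  obtain ⟨hcol⟩ := nonempty_isColimit_cofanMk_of (fun j => (S j).ι)
    (by
      rw [eq_top_iff]
      rintro z -
      obtain ⟨j, hj⟩ := hS z
      exact TopologicalSpace.Opens.mem_iSup.2 ⟨j, by rwa [Scheme.Opens.opensRange_ι]⟩)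
    (fun a b hab => by
      change Disjoint (S a).ι.opensRange (S b).ι.opensRange
      rw [Scheme.Opens.opensRange_ι, Scheme.Opens.opensRange_ι, disjoint_iff, eq_bot_iff]
      rintro z ⟨ha, hb⟩
      rcases lt_or_gt_of_ne hab with h | h
      · exact hSd a b h z ha hb
      · exact hSd b a h z hb ha)
  refine ⟨Cofan.IsColimit.desc hcol fun j => Z.homOfLE (fun z hz => hz.1) ≫ c (r.symm j), ?_⟩
  refine Cofan.IsColimit.hom_ext hcol _ _ fun j => ?_
  rw [Cofan.IsColimit.fac_assoc, Category.assoc, hc, Scheme.homOfLE_ι]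
  exact (Category.comp_id _).symm

end Scheme

end GrothLib.EtBasicB
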