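import Groth.Agent.Lib.EtSite.Points
import Mathlib.AlgebraicGeometry.Limits
import Mathlib.AlgebraicGeometry.Morphisms.UniversallyOpen

/-!
# Etale sheaves are Zariski sheaves with descent along affine surjective etale maps
-/

universe w u

open CategoryTheory CategoryTheory.Limits AlgebraicGeometry Opposite
open GrothLib.EtSite

namespace GrothLib.EtBasicB

variable {X : Scheme.{u}}

/-- an object of the small etale site from an etale map into one -/
noncomputable def objOver {U : X.Etale} {T : Scheme.{u}} (j : T ⟶ U.left) [Etale j] : X.Etale :=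
  haveI : Etale (U.hom : U.left ⟶ X) := U.prop
  Scheme.Etale.mk (j ≫ (U.hom : U.left ⟶ X))

/-- its structure map -/
noncomputable def homOver {U : X.Etale} {T : Scheme.{u}} (j : T ⟶ U.left) [Etale j] : objOver j ⟶ U :=
  MorphismProperty.Over.homMk j rfl trivial

theorem mem_zar_iff {U : X.Etale} (R : Sieve U) :
    R ∈ X.smallGrothendieckTopology (P := @IsOpenImmersion) U ↔
      ∀ u : U.left, ∃ (V : X.Etale) (g : V ⟶ U) (v : V.left),
        R g ∧ IsOpenImmersion g.left ∧ g.left.base v = u := by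
  have hle : @IsOpenImmersion ≤ EtCoh.etaleMP.{u} := fun _ _ f (hf : IsOpenImmersion f) =>
    haveI := hf; (inferInstance : Etale f)
  have eX : X.smallGrothendieckTopology (P := @IsOpenImmersion) =
      (X.smallPretopology (P := @IsOpenImmersion) (Q := EtCoh.etaleMP.{u})).toGrothendieck :=
    Scheme.smallGrothendieckTopology_eq_toGrothendieck_smallPretopology X hle
  rw [eX]
  exact Scheme.mem_toGrothendieck_smallPretopology U R

theorem zar_le : X.smallGrothendieckTopology (P := @IsOpenImmersion) ≤ X.smallEtaleTopology := by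
  intro U R hR
  refine (mem_topology_iff R).2 ?_
  intro u
  obtain ⟨V, g, v, h1, -, h2⟩ := (mem_zar_iff R).1 hR u
  exact ⟨V, g, v, h1, h2⟩

variable {F : X.Etaleᵒᵖ ⥤ Type w}
  (hz : Presieve.IsSheaf (X.smallGrothendieckTopology (P := @IsOpenImmersion)) F)
  (haff : ∀ (U V : X.Etale) [IsAffine U.left] [IsAffine V.left] (f : V ⟶ U) [Surjective f.left],
    Presieve.IsSheafFor F (Presieve.singleton f))
theorem map_map (F : X.Etaleᵒᵖ ⥤ Type w) {W V U : X.Etale} (g : V ⟶ U) (k : W ⟶ V) (x : F.obj (op U)) :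
    F.map k.op (F.map g.op x) = F.map (k ≫ g).op x := by
  rw [op_comp, Functor.map_comp_apply]

include hz haff

/-- separatedness along a map from an affine onto an affine, after base change -/
theorem eq_of_pullback {U V T : X.Etale} [IsAffine U.left] [IsAffine V.left] (f : V ⟶ U)
    [Surjective f.left] (h : T ⟶ U) (s t : F.obj (op T))
    (hst : ∀ (T' : X.Etale) (a : T' ⟶ T) (b : T' ⟶ V), a ≫ h = b ≫ f →
      F.map a.op s = F.map a.op t) : s = t := by
  let W : T.left.affineOpens → T.left.Opens := fun i => i.1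
  let ι : ∀ i : T.left.affineOpens, objOver (W i).ι ⟶ T := fun i => homOver (W i).ι
  have hcov : Sieve.generate (Presieve.ofArrows _ ι) ∈ X.smallGrothendieckTopology (P := @IsOpenImmersion) T := by
    rw [mem_zar_iff]
    intro x
    obtain ⟨A, hA, hxA, -⟩ := exists_isAffineOpen_mem_and_subset (U := ⊤) (x := x) trivial
    exact ⟨_, ι ⟨A, hA⟩, (⟨x, hxA⟩ : A), Sieve.le_generate _ _ _ (Presieve.ofArrows.mk _),
      inferInstanceAs (IsOpenImmersion A.ι), rfl⟩
  refine ((Presieve.isSheafFor_iff_generate _).2 (hz _ hcov)).isSeparatedFor.ext ?_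
  rintro _ _ ⟨i⟩
  haveI : IsAffine (objOver (W i).ι : X.Etale).left := i.2
  let γ : V.left ⟶ U.left := f.left
  let δ : (W i).toScheme ⟶ U.left := (W i).ι ≫ h.left
  haveI : Etale γ := inferInstanceAs (Etale f.left)
  haveI : Surjective γ := ‹Surjective f.left›
  haveI : Etale (pullback.fst δ γ) := MorphismProperty.pullback_fst _ _ ‹Etale γ›
  let q : pullback δ γ ⟶ (objOver (W i).ι : X.Etale).left := pullback.fst δ γ
  haveI : Etale q := ‹Etale (pullback.fst δ γ)›
  let P : X.Etale := objOver q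
  let a : P ⟶ objOver (W i).ι := homOver q
  haveI : IsAffine P.left := inferInstanceAs (IsAffine (pullback δ γ))
  haveI : Surjective a.left := inferInstanceAs (Surjective (pullback.fst δ γ))
  let b : P ⟶ V := MorphismProperty.Over.homMk (A := P) (B := V) (show P.left ⟶ V.left from pullback.snd δ γ) (by
    have e : γ ≫ (U.hom : U.left ⟶ X) = V.hom := Over.w f.hom
    have e' : h.left ≫ (U.hom : U.left ⟶ X) = T.hom := Over.w h.hom
    change pullback.snd δ γ ≫ V.hom = pullback.fst δ γ ≫ (W i).ι ≫ (T.hom : T.left ⟶ X)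
    rw [← e, ← e', ← Category.assoc, ← pullback.condition, Category.assoc, Category.assoc]) trivial
  apply (haff _ _ a).isSeparatedFor.ext
  rintro _ _ ⟨⟩
  change F.map a.op (F.map (ι i).op s) = F.map a.op (F.map (ι i).op t)
  refine (map_map F (ι i) a s).trans (Eq.trans ?_ (map_map F (ι i) a t).symm)
  refine hst _ (a ≫ ι i) b (MorphismProperty.Over.Hom.ext ?_)
  change (pullback.fst δ γ ≫ (W i).ι) ≫ h.left = pullback.snd δ γ ≫ γ
  rw [Category.assoc]
  exact pullback.condition

theorem isSheafFor_affine {U : X.Etale} [IsAffine U.left] (R : Sieve U)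
    (hR : R ∈ X.smallEtaleTopology U) : Presieve.IsSheafFor F R.arrows := by
  rw [mem_topology_iff] at hR
  choose V₀ g v hgR hgv using hR
  choose A hA hvA using fun u => (exists_isAffineOpen_mem_and_subset (U := (⊤ : (V₀ u).left.Opens)) (x := v u) trivial)
  let m : ∀ u, (A u : Scheme.{u}) ⟶ U.left := fun u => (A u).ι ≫ (g u).left
  haveI : ∀ u, Etale (m u) := fun u => by
    haveI : Etale (g u).left := inferInstance
    exact inferInstanceAs (Etale ((A u).ι ≫ (g u).left))
  obtain ⟨S, hS⟩ := isCompact_univ.elim_finite_subcover (fun u => Set.range (m u).base)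
    (fun u => (m u).isOpenMap.isOpen_range) (fun u _ => Set.mem_iUnion.2 ⟨u, ⟨⟨v u, (hvA u).1⟩, hgv u⟩⟩)
  let σ : (∐ fun i : S => (A i.1 : Scheme.{u})) ⟶ U.left := Sigma.desc fun i => m i.1
  haveI : Etale σ := IsZariskiLocalAtSource.sigmaDesc fun i => inferInstanceAs (Etale (m i.1))
  let V : X.Etale := objOver σ
  let f : V ⟶ U := homOver σ
  haveI : ∀ i : S, IsAffine (A i.1 : Scheme.{u}) := fun i => hA i.1
  haveI : IsAffine V.left := inferInstanceAs (IsAffine (∐ fun i : S => (A i.1 : Scheme.{u})))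
  haveI : Surjective f.left := ⟨fun u => by
    obtain ⟨i, hi, x, hx⟩ := Set.mem_iUnion₂.1 (hS (Set.mem_univ u))
    refine ⟨(Sigma.ι (fun i : S => (A i.1 : Scheme.{u})) ⟨i, hi⟩).base x, ?_⟩
    change σ.base _ = u
    rw [← Scheme.Hom.comp_apply, Sigma.ι_desc]
    exact hx⟩
  have hV : R.pullback f ∈ X.smallGrothendieckTopology (P := @IsOpenImmersion) V := by
    rw [mem_zar_iff]
    intro x
    obtain ⟨i, y, hy⟩ := (sigmaOpenCover (fun i : S => (A i.1 : Scheme.{u}))).exists_eq x
    haveI : IsOpenImmersion (Sigma.ι (fun i : S => (A i.1 : Scheme.{u})) i) := inferInstance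
    haveI : Etale (Sigma.ι (fun i : S => (A i.1 : Scheme.{u})) i) := inferInstance
    let q : (A i.1 : Scheme.{u}) ⟶ V.left := Sigma.ι (fun i : S => (A i.1 : Scheme.{u})) i
    haveI : Etale q := ‹Etale (Sigma.ι (fun i : S => (A i.1 : Scheme.{u})) i)›
    let j : objOver q ⟶ V := homOver q
    let k : objOver q ⟶ V₀ i.1 :=
      MorphismProperty.Over.homMk (A i.1).ι (by
        change (A i.1).ι ≫ (V₀ i.1).hom = Sigma.ι _ i ≫ σ ≫ (U.hom : U.left ⟶ X)
        refine Eq.trans ?_ ((Category.assoc _ _ _).trans (Eq.refl _))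
        refine Eq.trans ?_ (congrArg (· ≫ (U.hom : U.left ⟶ X)) (show m i.1 = Sigma.ι (fun i : S => (A i.1 : Scheme.{u})) i ≫ σ from (Sigma.ι_desc (fun i : S => m i.1) i).symm))
        refine Eq.trans ?_ (Category.assoc _ _ _).symm
        exact congrArg ((A i.1).ι ≫ ·) (Over.w (g i.1).hom).symm) trivial
    refine ⟨_, j, y, ?_, inferInstanceAs (IsOpenImmersion (Sigma.ι (fun i : S => (A i.1 : Scheme.{u})) i)), hy⟩
    change R (j ≫ f)
    have e : j ≫ f = k ≫ g i.1 := MorphismProperty.Over.Hom.ext (Sigma.ι_desc _ _)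
    rw [e]
    exact R.downward_closed (hgR i.1) k
  intro x hx
  obtain ⟨y, hy, hyu⟩ := hz _ hV (x.pullback f) (hx.pullback f)
  have hcompat : ∀ {T : X.Etale} (a b : T ⟶ V), a ≫ f = b ≫ f → F.map a.op y = F.map b.op y := by
    intro T a b hab
    refine (hz _ (GrothendieckTopology.intersection_covering _ (GrothendieckTopology.pullback_stable _ a hV)
      (GrothendieckTopology.pullback_stable _ b hV))).isSeparatedFor.ext ?_
    rintro (W : X.Etale) k ⟨h1, h2⟩
    refine (map_map F a k y).trans (((hy _ h1).trans ?_).trans ((map_map F b k y).trans (hy _ h2)).symm)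
    exact congrArg (fun z => x z.1 z.2) (Subtype.ext (by simp only [Category.assoc, hab]) :
      (⟨(k ≫ a) ≫ f, h1⟩ : {z : W ⟶ U // R z}) = ⟨(k ≫ b) ≫ f, h2⟩)
  obtain ⟨t, ht, htu⟩ := haff U V f (fun W h (hh : Presieve.singleton f h) => by
      cases hh; exact y) (fun W₁ W₂ T a b h₁ h₂ hh₁ hh₂ e => by
      cases hh₁; cases hh₂; exact hcompat a b e)
  have ht' : F.map f.op t = y := ht f Presieve.singleton.mk
  refine ⟨t, fun T h hh => ?_, fun t' ht'' => htu _ (fun W h (hh : Presieve.singleton f h) => ?_)⟩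
  · refine eq_of_pullback hz haff f h _ _ fun T' a b e => ?_
    refine ((map_map F h a t).trans (congrArg (fun z => F.map (Quiver.Hom.op z) t) e)).trans ?_
    refine (map_map F f b t).symm.trans ?_
    rw [ht']
    refine (hz _ (GrothendieckTopology.pullback_stable _ b hV)).isSeparatedFor.ext ?_
    intro (W : X.Etale) k hk
    refine (map_map F b k y).trans ((hy _ hk).trans (Eq.trans ?_ (map_map F a k _).symm))
    exact (by
      have h3 := hx (𝟙 W) (k ≫ a) (f₁ := (k ≫ b) ≫ f) (f₂ := h) hk hh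
        (by rw [Category.id_comp, Category.assoc, Category.assoc, e])
      simp only [op_id, Functor.map_id_apply] at h3
      exact h3)
  · cases hh
    exact hyu _ fun W k hk => (map_map F f k t').trans (ht'' _ hk)

theorem isSheaf_etale : Presieve.IsSheaf X.smallEtaleTopology F := by
  intro U R hR
  have hsep : ∀ {T : X.Etale} (R' : Sieve T), R' ∈ X.smallEtaleTopology T →
      Presieve.IsSeparatedFor F R'.arrows := by
    intro T R' hR' x s t hs ht
    let W : T.left.affineOpens → T.left.Opens := fun i => i.1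
    have hcov : Sieve.generate (Presieve.ofArrows _ (fun i => homOver (W i).ι)) ∈
        X.smallGrothendieckTopology (P := @IsOpenImmersion) T := by
      rw [mem_zar_iff]
      intro z
      obtain ⟨A, hA, hzA, -⟩ := exists_isAffineOpen_mem_and_subset (U := ⊤) (x := z) trivial
      exact ⟨_, homOver (W ⟨A, hA⟩).ι, (⟨z, hzA⟩ : A), Sieve.le_generate _ _ _ (Presieve.ofArrows.mk _),
        inferInstanceAs (IsOpenImmersion A.ι), rfl⟩
    refine ((Presieve.isSheafFor_iff_generate _).2 (hz _ hcov)).isSeparatedFor.ext ?_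
    rintro _ _ ⟨i⟩
    haveI : IsAffine (objOver (W i).ι : X.Etale).left := i.2
    refine (isSheafFor_affine hz haff _ (GrothendieckTopology.pullback_stable _ (homOver (W i).ι) hR')).isSeparatedFor.ext ?_
    intro (V : X.Etale) k hk
    exact (map_map F _ k s).trans ((hs _ hk).trans ((ht _ hk).symm.trans (map_map F _ k t).symm))
  intro x hx
  let W : U.left.affineOpens → U.left.Opens := fun i => i.1
  let ι : ∀ i : U.left.affineOpens, objOver (W i).ι ⟶ U := fun i => homOver (W i).ι
  have hcov : Sieve.generate (Presieve.ofArrows _ ι) ∈ X.smallGrothendieckTopology (P := @IsOpenImmersion) U := by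
    rw [mem_zar_iff]
    intro z
    obtain ⟨A, hA, hzA, -⟩ := exists_isAffineOpen_mem_and_subset (U := ⊤) (x := z) trivial
    exact ⟨_, ι ⟨A, hA⟩, (⟨z, hzA⟩ : A), Sieve.le_generate _ _ _ (Presieve.ofArrows.mk _),
      inferInstanceAs (IsOpenImmersion A.ι), rfl⟩
  choose t ht _ using fun i =>
    haveI : IsAffine (objOver (W i).ι : X.Etale).left := i.2
    isSheafFor_affine hz haff _ (GrothendieckTopology.pullback_stable _ (ι i) hR) (x.pullback (ι i))
      (hx.pullback (ι i))
  have hzs := (Presieve.isSheafFor_iff_generate _).2 (hz _ hcov)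
  obtain ⟨s, hs, -⟩ := (Presieve.isSheafFor_arrows_iff _ _).1 hzs t (fun i j Z gi gj e => by
    refine (hsep _ (GrothendieckTopology.pullback_stable _ (gi ≫ ι i) hR)).ext ?_
    intro (V : X.Etale) k hk
    have hk' : R ((k ≫ gj) ≫ ι j) :=
      (congrArg (fun z => R z) ((congrArg (k ≫ ·) e).trans (Category.assoc _ _ _).symm)).mp hk
    have hk'' : R ((k ≫ gi) ≫ ι i) := (congrArg (fun z => R z) (Category.assoc k gi (ι i)).symm).mp hk
    refine (map_map F gi k (t i)).trans (((ht i _ hk'').trans ?_).trans ((map_map F gj k (t j)).trans (ht j _ hk')).symm)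
    exact congrArg (fun z => x z.1 z.2) (Subtype.ext ((Category.assoc k gi (ι i)).trans ((congrArg (k ≫ ·) e).trans (Category.assoc k gj (ι j)).symm)) :
      (⟨(k ≫ gi) ≫ ι i, hk''⟩ : {z : V ⟶ U // R z}) = ⟨(k ≫ gj) ≫ ι j, hk'⟩))
  refine ⟨s, fun T h hh => ?_, fun s' hs' => hsep R hR x _ _ hs' (fun T h hh => ?_)⟩
  all_goals
    refine (hz _ (GrothendieckTopology.pullback_stable _ h hcov)).isSeparatedFor.ext ?_
    rintro (V : X.Etale) k ⟨Y, a, b, hb, e⟩
    obtain ⟨i⟩ := hb
    have hk : R (a ≫ ι i) := e.symm ▸ R.downward_closed hh k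
    refine (map_map F h k s).trans ((congrArg (fun z => F.map (Quiver.Hom.op z) s) e.symm).trans
      ((map_map F (ι i) a s).symm.trans ((congrArg (F.map a.op) (hs i)).trans ((ht i a hk).trans ?_))))
    have h3 := hx (𝟙 V) k (f₁ := a ≫ ι i) (f₂ := h) hk hh (by rw [Category.id_comp, e])
    simp only [op_id, Functor.map_id_apply] at h3
    exact h3

omit hz haff in
theorem isSheaf_iff (X : Scheme.{u}) (F : X.Etaleᵒᵖ ⥤ Type w) :
    Presieve.IsSheaf X.smallEtaleTopology F ↔
      Presieve.IsSheaf (X.smallGrothendieckTopology (P := @IsOpenImmersion)) F ∧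
        ∀ (U V : X.Etale) [IsAffine U.left] [IsAffine V.left] (f : V ⟶ U) [Surjective f.left],
          Presieve.IsSheafFor F (Presieve.singleton f) := by
  refine ⟨fun h => ⟨Presieve.isSheaf_of_le _ zar_le h, fun U V _ _ f hf => ?_⟩,
    fun ⟨hz, haff⟩ => isSheaf_etale hz haff⟩
  rw [Presieve.isSheafFor_iff_generate]
  refine h _ ?_
  rw [mem_topology_iff]
  intro u
  obtain ⟨v, hv⟩ := hf.surj u
  exact ⟨V, f, v, Sieve.le_generate _ _ _ Presieve.singleton.mk, hv⟩

end GrothLib.EtBasicB
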