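import Groth.Agent.Lib.EtSite.Points
import Groth.Prelude.Def_W4c5etcohweilstudentAS
import Mathlib.AlgebraicGeometry.Morphisms.Etale
import Mathlib.RingTheory.Etale.StandardEtale
import Mathlib.FieldTheory.IsAlgClosed.AlgebraicClosure

/-!
# Etale-locally solving Kummer and Artin-Schreier equations
-/

universe u

open CategoryTheory CategoryTheory.Limits AlgebraicGeometry Opposite Polynomial
open GrothLib.EtSite

namespace GrothLib.EtBasicB

variable {X : Scheme.{u}}

theorem exists_etale_root (U : X.Etale) (u : U.left) (f p₁ p₂ : Polynomial Γ(U.left, ⊤))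
    (hf : f.Monic) (hd : 0 < f.natDegree) (hp : derivative f * p₁ + f * p₂ = 1) :
    ∃ (W : X.Etale) (g : W ⟶ U) (w : W.left) (r : Γ(W.left, ⊤)),
      g.left.base w = u ∧ Polynomial.eval₂ (g.left.appTop).hom r f = 0 := by
  obtain ⟨V, hV, huV, -⟩ := exists_isAffineOpen_mem_and_subset (U := ⊤) (x := u) trivial
  let ρ : Γ(U.left, ⊤) ⟶ Γ(U.left, V) := U.left.presheaf.map (homOfLE le_top).op
  let P : StandardEtalePair Γ(U.left, V) :=
    { f := f.map ρ.hom
      monic_f := hf.map _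
      g := 1
      cond := ⟨p₁.map ρ.hom, p₂.map ρ.hom, 0, by
        rw [Polynomial.derivative_map, ← Polynomial.map_mul, ← Polynomial.map_mul, ← Polynomial.map_add,
          hp, Polynomial.map_one, one_pow]⟩ }
  haveI : Algebra.Etale Γ(U.left, V) P.Ring := inferInstance
  let α : Γ(U.left, V) ⟶ CommRingCat.of P.Ring := CommRingCat.ofHom (algebraMap _ _)
  haveI : Etale (Spec.map α) :=
    (HasRingHomProperty.Spec_iff (P := @Etale)).2 (RingHom.etale_algebraMap.2 inferInstance)
  let π : Spec (CommRingCat.of P.Ring) ⟶ U.left := Spec.map α ≫ hV.fromSpec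
  haveI : Etale (U.hom : U.left ⟶ X) := U.prop
  haveI : Etale π := inferInstance
  let W : X.Etale := Scheme.Etale.mk (π ≫ (U.hom : U.left ⟶ X))
  let g : W ⟶ U := MorphismProperty.Over.homMk π rfl trivial
  -- a point over u
  let q := hV.primeIdealOf ⟨u, huV⟩
  let κ := AlgebraicClosure q.asIdeal.ResidueField
  haveI : Nontrivial Γ(U.left, V) := RingHom.domain_nontrivial (algebraMap _ q.asIdeal.ResidueField)
  haveI : Nontrivial Γ(U.left, ⊤) := RingHom.domain_nontrivial ρ.hom
  obtain ⟨x, hx⟩ := IsAlgClosed.exists_aeval_eq_zero κ (f.map ρ.hom |>.map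
    (algebraMap Γ(U.left, V) q.asIdeal.ResidueField)) (by
      rw [(hf.map _).degree_map, hf.degree_map, Polynomial.degree_eq_natDegree hf.ne_zero]
      exact_mod_cast hd.ne')
  letI : Algebra Γ(U.left, V) κ :=
    ((algebraMap q.asIdeal.ResidueField κ).comp (algebraMap Γ(U.left, V) q.asIdeal.ResidueField)).toAlgebra
  have hmap : P.HasMap x := by
    refine ⟨?_, by simp [P]⟩
    rw [Polynomial.aeval_def] at hx ⊢
    rw [Polynomial.eval₂_map] at hx
    exact hx
  let φ := P.lift x hmap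
  let w : Spec (CommRingCat.of P.Ring) := ⟨RingHom.ker φ.toRingHom, RingHom.ker_isPrime _⟩
  have hw : (Spec.map α).base w = q := by
    refine PrimeSpectrum.ext ?_
    ext a
    change φ (algebraMap _ P.Ring a) = 0 ↔ a ∈ q.asIdeal
    rw [AlgHom.commutes, RingHom.algebraMap_toAlgebra, RingHom.comp_apply, map_eq_zero,
      Ideal.algebraMap_residueField_eq_zero]
  have hgw : g.left.base w = u := by
    change π.base w = u
    rw [Scheme.Hom.comp_apply, hw]
    exact hV.fromSpec_primeIdealOf ⟨u, huV⟩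
  -- global functions
  let ψ : Γ(U.left, ⊤) ⟶ CommRingCat.of P.Ring := ρ ≫ α
  have hπ : π ≫ U.left.toSpecΓ = Spec.map ψ := by
    rw [Category.assoc, hV.fromSpec_toSpecΓ, ← Spec.map_comp]
  have happ : π.appTop = ψ ≫ (Scheme.ΓSpecIso (CommRingCat.of P.Ring)).inv := by
    have h2 := congrArg Scheme.Hom.appTop hπ
    rw [Scheme.Hom.comp_appTop, Scheme.toSpecΓ_appTop] at h2
    have h3 := Scheme.ΓSpecIso_naturality ψ
    rw [← h2, Category.assoc, Iso.cancel_iso_hom_left] at h3
    rw [← h3, Category.assoc, Iso.hom_inv_id, Category.comp_id]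
  refine ⟨W, g, w, (Scheme.ΓSpecIso (CommRingCat.of P.Ring)).inv P.X, hgw, ?_⟩
  change Polynomial.eval₂ π.appTop.hom _ f = 0
  rw [happ, CommRingCat.hom_comp, ← Polynomial.hom_eval₂]
  have h4 := P.hasMap_X.1
  rw [Polynomial.aeval_def, Polynomial.eval₂_map] at h4
  rw [show ψ.hom = (algebraMap Γ(U.left, V) P.Ring).comp ρ.hom from rfl, h4, map_zero]

theorem powMap_epi (S : Scheme.{u}) (n : ℕ) (hn : IsUnit (n : Γ(S, ⊤))) : Epi (EtCoh.powMap S n) := by
  suffices Sheaf.IsLocallySurjective (EtCoh.powMap S n) from Sheaf.epi_of_isLocallySurjective _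
  refine ⟨fun {U} s => ?_⟩
  rw [mem_topology_iff]
  intro u
  have hnU : IsUnit (n : Γ(U.left, ⊤)) := by
    simpa using hn.map (U.hom.appTop).hom
  have hn0 : 0 < n := by
    refine Nat.pos_of_ne_zero fun h0 => ?_
    subst h0
    have := congrArg (U.left.presheaf.germ ⊤ u trivial) (isUnit_zero_iff.1 (by simpa using hnU))
    rw [map_zero, map_one] at this
    exact zero_ne_one this
  let a : Γ(U.left, ⊤)ˣ := Additive.toMul (ULift.down s)
  obtain ⟨c, hc⟩ := hnU.exists_left_inv
  obtain ⟨W, g, w, r, hw, hr⟩ := exists_etale_root U u (Polynomial.X ^ n - Polynomial.C (a : Γ(U.left, ⊤)))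
    (Polynomial.C (c * (↑a⁻¹ : Γ(U.left, ⊤))) * Polynomial.X) (Polynomial.C (-(↑a⁻¹ : Γ(U.left, ⊤))))
    (Polynomial.monic_X_pow_sub_C _ hn0.ne')
    (by
      haveI : Nontrivial Γ(U.left, ⊤) := RingHom.domain_nontrivial (U.left.presheaf.germ ⊤ u trivial).hom
      rw [Polynomial.natDegree_X_pow_sub_C]; exact hn0)
    (by
      obtain ⟨m, rfl⟩ := Nat.exists_eq_succ_of_ne_zero hn0.ne'
      rw [derivative_sub, derivative_X_pow, derivative_C, sub_zero]
      simp only [Nat.succ_sub_one, map_mul, map_neg, pow_succ]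
      have h1 : Polynomial.C ((m + 1 : ℕ) : Γ(U.left, ⊤)) * Polynomial.C c = 1 := by
        rw [← map_mul, mul_comm, hc, map_one]
      have h2 : Polynomial.C (a : Γ(U.left, ⊤)) * Polynomial.C (↑a⁻¹ : Γ(U.left, ⊤)) = 1 := by
        rw [← map_mul, Units.mul_inv, map_one]
      linear_combination (Polynomial.C (↑a⁻¹ : Γ(U.left, ⊤)) * Polynomial.X ^ (m + 1)) * h1 + h2)
  refine ⟨W, g, w, ?_, hw⟩
  rw [Polynomial.eval₂_sub, Polynomial.eval₂_X_pow, Polynomial.eval₂_C, sub_eq_zero] at hr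
  have hru : IsUnit r := (isUnit_pow_iff hn0.ne').1 (hr ▸ (a.isUnit.map g.left.appTop.hom))
  let t : (EtCoh.Gm S).obj.obj (op W) := ULift.up (Additive.ofMul hru.unit)
  refine ⟨t, ?_⟩
  change (n • 𝟙 (EtCoh.Gm S) : EtCoh.Gm S ⟶ EtCoh.Gm S).hom.app (op W) t = (EtCoh.Gm S).obj.map g.op s
  let ev : (EtCoh.Gm S ⟶ EtCoh.Gm S) →+ (EtCoh.Gm S).obj.obj (op W) :=
    AddMonoidHom.mk' (fun φ => φ.hom.app (op W) t) (fun _ _ => rfl)
  refine (map_nsmul ev n (𝟙 _)).trans ?_
  change n • t = _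
  refine ULift.ext _ _ (Additive.toMul.injective (Units.ext ?_))
  change (hru.unit ^ n : Γ(W.left, ⊤)ˣ).val = _
  rw [Units.val_pow_eq_pow_val, IsUnit.unit_spec, hr]
  rfl

theorem artinSchreier_epi (p : ℕ) (hp : p.Prime) {X : Scheme.{u}} (h0 : (p : Γ(X, ⊤)) = 0) :
    Epi (W4c5etcohweilstudent.artinSchreierEndo X p hp h0) := by
  suffices Sheaf.IsLocallySurjective (W4c5etcohweilstudent.artinSchreierEndo X p hp h0) from
    Sheaf.epi_of_isLocallySurjective _
  refine ⟨fun {U} s => ?_⟩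
  rw [mem_topology_iff]
  intro u
  have h0U := W4c5etcohweilstudent.natCast_eq_zero_etale p h0 U
  haveI : Nontrivial Γ(U.left, ⊤) := RingHom.domain_nontrivial (U.left.presheaf.germ ⊤ u trivial).hom
  let a : Γ(U.left, ⊤) := ULift.down s
  have hd : (Polynomial.X + Polynomial.C a).degree < (p : WithBot ℕ) := by
    rw [Polynomial.degree_X_add_C]
    exact_mod_cast hp.one_lt
  obtain ⟨W, g, w, r, hw, hr⟩ := exists_etale_root U u
    (Polynomial.X ^ p - (Polynomial.X + Polynomial.C a)) (-1) 0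
    (Polynomial.monic_X_pow_sub hd)
    (by
      have h := (Polynomial.degree_sub_eq_left_of_degree_lt (p := (Polynomial.X : Polynomial Γ(U.left, ⊤)) ^ p)
        (q := Polynomial.X + Polynomial.C a) (by rwa [Polynomial.degree_X_pow]))
      rw [Polynomial.natDegree_eq_of_degree_eq h, Polynomial.natDegree_X_pow]
      exact hp.pos)
    (by
      rw [derivative_sub, derivative_add, derivative_X_pow, derivative_X, derivative_C, h0U, map_zero]
      ring)
  refine ⟨W, g, w, ⟨ULift.up r, ?_⟩, hw⟩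
  rw [eval₂_sub, eval₂_X_pow, eval₂_add, eval₂_X, eval₂_C, sub_eq_zero] at hr
  refine ULift.ext _ _ ?_
  change r ^ p - r = g.left.appTop a
  rw [hr, add_sub_cancel_left]

end GrothLib.EtBasicB
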