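import Groth.Agent.Lib.EtSite.Points
import Groth.Prelude.Def_PBC
import Groth.Prelude.Def_EtShriek2
import Groth.Prelude.Def_EtAcyc
import Groth.Prelude.Def_EtBaseX
import Mathlib.AlgebraicGeometry.Morphisms.UniversallyOpen
import Mathlib.AlgebraicGeometry.PullbackCarrier

/-!
# Supports of sections and sheaves on the small etale site
-/

universe u

open CategoryTheory CategoryTheory.Limits AlgebraicGeometry Opposite
open GrothLib.EtSite

namespace GrothLib.EtBasicB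

variable {S : Scheme.{u}}

/-- a geometric point lifts through an etale map over any point in the fibre -/
theorem exists_fib_lift {Ω : Type u} [Field Ω] [IsSepClosed Ω] (ξ : Spec (CommRingCat.of Ω) ⟶ S)
    {U W : S.Etale} (g : W ⟶ U) (t : (Scheme.pointSmallEtale ξ).fiber.obj U) (w : W.left)
    (hw : g.left.base w = t.left.base (default : Spec (CommRingCat.of Ω))) :
    ∃ t' : (Scheme.pointSmallEtale ξ).fiber.obj W, (Scheme.pointSmallEtale ξ).fiber.map g t' = t ∧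
      t'.left.base (default : Spec (CommRingCat.of Ω)) = w := by
  let τ : Spec (CommRingCat.of Ω) ⟶ U.left := t.left
  let γ : W.left ⟶ U.left := g.left
  obtain ⟨z, hz, -⟩ := Scheme.Pullback.exists_preimage_pullback (f := γ) (g := τ) w default hw
  obtain ⟨σ, hσ⟩ := exists_fib (𝟙 (Spec (CommRingCat.of Ω)))
    (U := Scheme.Etale.mk (pullback.snd γ τ)) z (@Subsingleton.elim (Spec (CommRingCat.of Ω)) _ _ _)
  let s : Spec (CommRingCat.of Ω) ⟶ pullback γ τ := σ.left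
  have hs : s ≫ pullback.snd γ τ = 𝟙 _ := Over.w σ
  have h1 : (s ≫ pullback.fst γ τ) ≫ γ = τ := by
    rw [Category.assoc, pullback.condition, ← Category.assoc, hs, Category.id_comp]
  refine ⟨fib ξ (U := W) (s ≫ pullback.fst γ τ) ?_, Over.OverMorphism.ext h1, ?_⟩
  · have eg : γ ≫ U.hom = W.hom := Over.w g.hom
    rw [← eg, ← Category.assoc, h1]
    exact Over.w t
  · change (s ≫ pullback.fst γ τ).base default = w
    rw [Scheme.Hom.comp_apply]
    exact (congrArg _ hσ).trans hz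

theorem isOpen_range_left {U W : S.Etale} (g : W ⟶ U) : IsOpen (Set.range g.left.base) := by
  let γ : W.left ⟶ U.left := g.left
  haveI : Etale γ := inferInstanceAs (Etale g.left)
  exact γ.isOpenMap.isOpen_range

theorem isClosed_sectSupp (F : EtCoh.Ab S) (U : S.Etale) (σ : EtCoh.sect F U) :
    IsClosed (EtShriek.sectSupp F U σ) := by
  rw [← isOpen_compl_iff, isOpen_iff_forall_mem_open]
  intro x hx
  simp only [EtShriek.sectSupp, Set.mem_compl_iff, Set.mem_setOf_eq, not_forall] at hx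
  obtain ⟨W, g, ⟨w, hw⟩, h0⟩ := hx
  refine ⟨Set.range g.left.base, ?_, isOpen_range_left g, ⟨w, hw⟩⟩
  rintro _ ⟨w', rfl⟩ hy
  exact hy W g ⟨w', rfl⟩ (not_not.1 h0)

theorem germ_ne_zero_iff {Ω : Type u} [Field Ω] [IsSepClosed Ω] (ξ : Spec (CommRingCat.of Ω) ⟶ S)
    (F : EtCoh.Ab S) {U : S.Etale} (t : (Scheme.pointSmallEtale ξ).fiber.obj U) (σ : EtCoh.sect F U) :
    germ ξ F t σ ≠ 0 ↔ t.left.base (default : Spec (CommRingCat.of Ω)) ∈ EtShriek.sectSupp F U σ := by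
  constructor
  · intro h W g ⟨w, hw⟩ h0
    obtain ⟨t', ht', -⟩ := exists_fib_lift ξ g t w hw
    apply h
    rw [← ht', ← germ_map ξ F g t' σ, h0, map_zero]
  · intro h h0
    obtain ⟨V, g, v, hv, hg⟩ := eq_zero_nhd ξ F t σ h0
    exact h V g ⟨v, hv⟩ hg

theorem not_isZero_iff {A : AddCommGrpCat.{u + 1}} : ¬ IsZero A ↔ ∃ a : A, a ≠ 0 := by
  constructor
  · intro h
    by_contra hc
    push Not at hc
    haveI : Subsingleton A := ⟨fun a b => (hc a).trans (hc b).symm⟩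
    exact h (AddCommGrpCat.isZero_of_subsingleton A)
  · rintro ⟨a, ha⟩ h
    exact ha (@Subsingleton.elim _ (AddCommGrpCat.subsingleton_of_isZero h) _ _)

theorem supp_eq_union (F : EtCoh.Ab S) :
    EtPBC.supp F = ⋃ (U : S.Etale) (σ : EtCoh.sect F U), U.hom.base '' EtShriek.sectSupp F U σ := by
  ext s
  simp only [Set.mem_iUnion, Set.mem_image]
  constructor
  · rintro ⟨Ω, _, _, ξ, hξ, hne⟩
    obtain ⟨a, ha⟩ := not_isZero_iff.1 hne
    obtain ⟨U, t, σ, rfl⟩ := exists_germ ξ F a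
    refine ⟨U, σ, _, (germ_ne_zero_iff ξ F t σ).1 ha, ?_⟩
    have e : t.left ≫ U.hom = ξ := Over.w t
    have h2 := hξ.le ⟨default, rfl⟩
    rw [← e, Scheme.Hom.comp_apply] at h2
    exact h2
  · rintro ⟨U, σ, x, hx, rfl⟩
    obtain ⟨t, ht⟩ := exists_fib (gpt (U.hom.base x)) x (gpt_default _).symm
    exact ⟨_, inferInstance, inferInstance, gpt (U.hom.base x), range_gpt _,
      not_isZero_iff.2 ⟨germ _ F t σ, (germ_ne_zero_iff _ F t σ).2 (by rw [ht]; exact hx)⟩⟩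

theorem isLTorsion_iff_stalks (L : Set ℕ) (F : EtCoh.Ab S) :
    EtAcyc.IsLTorsion L F ↔
      ∀ (Ω : Type u) [Field Ω] [IsSepClosed Ω] (ξ : Spec (CommRingCat.of Ω) ⟶ S)
        (a : (EtCoh.stalk ξ).obj F), ∃ m : ℕ, EtAcyc.PrimesIn L m ∧ m • a = 0 := by
  constructor
  · intro h Ω _ _ ξ a
    obtain ⟨U, t, σ, rfl⟩ := exists_germ ξ F a
    obtain ⟨V, g, m, ⟨v, hv⟩, hm, hm0⟩ := h U σ (t.left.base (default : Spec (CommRingCat.of Ω)))
    obtain ⟨t', ht', -⟩ := exists_fib_lift ξ g t v hv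
    refine ⟨m, hm, ?_⟩
    rw [← ht', ← germ_map ξ F g t' σ, ← map_nsmul, hm0, map_zero]
  · intro h U σ x
    obtain ⟨t, ht⟩ := exists_fib (gpt (U.hom.base x)) x (gpt_default _).symm
    obtain ⟨m, hm, hm0⟩ := h _ _ (germ (gpt (U.hom.base x)) F t σ)
    rw [← map_nsmul] at hm0
    obtain ⟨V, g, v, hv, hg⟩ := eq_zero_nhd _ F t (m • σ) hm0
    exact ⟨V, g, m, ⟨v, hv.trans ht⟩, hm, by rw [← map_nsmul]; exact hg⟩

theorem exists_primesIn_smul_eq_zero (L : Set ℕ) (F : EtCoh.Ab S) (hF : EtAcyc.IsLTorsion L F)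
    (U : S.Etale) [CompactSpace U.left] (s : EtCoh.sect F U) :
    ∃ m : ℕ, EtAcyc.PrimesIn L m ∧ m • s = 0 := by
  choose V g m hv hm hs using fun x : U.left => hF U s x
  obtain ⟨T, hT⟩ := isCompact_univ.elim_finite_subcover (fun x : U.left => Set.range (g x).left.base)
    (fun x => isOpen_range_left (g x)) (fun x _ => Set.mem_iUnion.2 ⟨x, hv x⟩)
  refine ⟨∏ x ∈ T, m x, ⟨Finset.prod_pos fun x _ => (hm x).1, fun p hp hd => ?_⟩, ?_⟩
  · obtain ⟨x, hx, hdx⟩ := (hp.prime.dvd_finsetProd_iff _).1 hd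
    exact (hm x).2 p hp hdx
  · refine section_eq_zero_of_germs F U _ fun Ω _ _ ξ t => ?_
    obtain ⟨x, hx, hxw⟩ := Set.mem_iUnion₂.1 (hT (Set.mem_univ (t.left.base (default : Spec (CommRingCat.of Ω)))))
    obtain ⟨w, hw⟩ := hxw
    obtain ⟨t', ht', -⟩ := exists_fib_lift ξ (g x) t w hw
    obtain ⟨c, hc⟩ := Finset.dvd_prod_of_mem m hx
    rw [hc, mul_comm, mul_nsmul', map_nsmul, ← ht', ← germ_map ξ F (g x) t', map_nsmul, hs x,
      map_zero, smul_zero]

end GrothLib.EtBasicB
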