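import Groth.Agent.Lib.EtSite.HVanish
import Groth.Agent.Lib.EtSite.PushExact
import Groth.Agent.Lib.EtSite.ZeroDim
import Mathlib.AlgebraicGeometry.ResidueField

/-!
# Vanishing of etale cohomology from exactness of global sections

Global sections preserve epimorphisms on schemes all whose etale covers split, and on schemes
finite over a strictly henselian local ring.
-/

universe u

open CategoryTheory CategoryTheory.Limits AlgebraicGeometry Opposite
open GrothLib.EtSite

namespace GrothLib.EtBasicB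

/-- If every surjective etale map to `X` has a section, then global sections preserve epimorphisms. -/
theorem surjective_top_of_sections {X : Scheme.{u}}
    (hX : ∀ (W : Scheme.{u}) (G : W ⟶ X) [Etale G] [Surjective G], ∃ s : X ⟶ W, s ≫ G = 𝟙 X)
    {F H : EtCoh.Ab X} (a : F ⟶ H) [Epi a] :
    Function.Surjective (a.hom.app (op (EtCoh.top X))) := by
  intro y
  have h1 : Sheaf.IsLocallySurjective a := (Sheaf.isLocallySurjective_iff_epi' _ a).2 inferInstance
  have hloc := (mem_topology_iff _).1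
    (Presheaf.imageSieve_mem X.smallEtaleTopology a.hom (U := op (EtCoh.top X)) y)
  choose V g v hg hv using hloc
  let V' : X → Scheme.{u} := fun x => (V x).left
  let G : (∐ V') ⟶ X := Sigma.desc fun x => (g x).left
  haveI : Etale G := IsZariskiLocalAtSource.sigmaDesc fun x => inferInstanceAs (Etale (g x).left)
  haveI : Surjective G := ⟨fun x => ⟨(Sigma.ι V' x).base (v x), by
    rw [← Scheme.Hom.comp_apply, Sigma.ι_desc]; exact hv x⟩⟩
  obtain ⟨s, hs⟩ := hX _ G
  let O : X → (EtCoh.top X).left.Opens := fun x => s ⁻¹ᵁ (Sigma.ι V' x).opensRange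
  have hdisj : ∀ a b, a ≠ b → Disjoint (O a) (O b) := fun a b hab => by
    rw [disjoint_iff_inf_le]
    exact fun x hx => ((disjoint_opensRange_sigmaι V' a b hab).le_bot
      (show s.base x ∈ (Sigma.ι V' a).opensRange ⊓ (Sigma.ι V' b).opensRange from hx)).elim
  have hsup : (⨆ x, O x) = ⊤ := by
    rw [eq_top_iff]
    intro z _
    obtain ⟨⟨i, w⟩, hw⟩ := (sigmaMk V').surjective (s.base z)
    exact TopologicalSpace.Opens.mem_iSup.2 ⟨i, w, (sigmaMk_mk V' i w).symm.trans hw⟩
  have hk : ∀ x, ∃ k : opensObj (EtCoh.top X) (O x) ⟶ V x, k ≫ g x = opensHom _ (O x) := fun x => by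
    have hsub : Set.range ((O x).ι ≫ s).base ⊆ Set.range (Sigma.ι V' x).base := by
      rintro _ ⟨z, rfl⟩
      exact z.2
    let l := IsOpenImmersion.lift (Sigma.ι V' x) _ hsub
    have e : l ≫ (g x).left = (O x).ι := by
      have h := congrArg (· ≫ G) (IsOpenImmersion.lift_fac (Sigma.ι V' x) _ hsub)
      simp only [Category.assoc, G, Sigma.ι_desc] at h
      exact h.trans ((congrArg (_ ≫ ·) hs).trans (Category.comp_id _))
    refine ⟨MorphismProperty.Over.homMk l ?_, MorphismProperty.Over.Hom.ext e⟩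
    have h2 : (g x).left ≫ (EtCoh.top X).hom = (V x).hom := Over.w (g x).hom
    refine (congrArg (l ≫ ·) h2.symm).trans ?_
    exact (Category.assoc _ _ _).symm.trans (congrArg (· ≫ _) e)
  choose k hk using hk
  choose z hz using hg
  have hP : ∀ K : EtCoh.Ab X, Presieve.IsSheaf X.smallEtaleTopology (K.obj ⋙ forget _) := fun K =>
    (isSheaf_iff_isSheaf_of_type _ _).1
      ((sheafCompose X.smallEtaleTopology (forget AddCommGrpCat.{u + 1})).obj K).property
  obtain ⟨t, ht, -⟩ := existsUnique_glue (hP F) _ O hdisj hsup fun x => F.obj.map (k x).op (z x)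
  refine ⟨t, eq_of_glue (hP H) _ O hsup _ _ fun x => ?_⟩
  change H.obj.map (opensHom _ (O x)).op (a.hom.app _ t) = H.obj.map (opensHom _ (O x)).op y
  rw [← NatTrans.naturality_apply, show F.obj.map (opensHom _ (O x)).op t = _ from ht x,
    NatTrans.naturality_apply, hz x, ← ConcreteCategory.comp_apply, ← H.obj.map_comp, ← op_comp, hk x]

/-- Global sections preserve epimorphisms on a scheme with exact direct image to a scheme with this
property. -/
theorem surjective_top_of_push {X Y : Scheme.{u}} (f : X ⟶ Y)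
    [(EtCoh.push f).PreservesEpimorphisms]
    (hY : ∀ {F G : EtCoh.Ab Y} (a : F ⟶ G) [Epi a], Function.Surjective (a.hom.app (op (EtCoh.top Y))))
    {F G : EtCoh.Ab X} (a : F ⟶ G) [Epi a] :
    Function.Surjective (a.hom.app (op (EtCoh.top X))) := by
  let p : ((EtCoh.bc f).obj (EtCoh.top Y)) ⟶ EtCoh.top X :=
    MorphismProperty.Over.homMk (pullback.snd _ _) (Category.comp_id _)
  haveI : IsIso p.left := inferInstanceAs (IsIso (pullback.snd (𝟙 Y) f))
  let q : EtCoh.top X ⟶ (EtCoh.bc f).obj (EtCoh.top Y) :=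
    MorphismProperty.Over.homMk (inv p.left) (IsIso.inv_hom_id (pullback.snd (𝟙 Y) f))
  have hqp : q ≫ p = 𝟙 _ := MorphismProperty.Over.Hom.ext (IsIso.inv_hom_id _)
  intro y
  obtain ⟨x, hx⟩ := hY ((EtCoh.push f).map a) (G.obj.map p.op y)
  refine ⟨F.obj.map q.op x, ?_⟩
  refine (NatTrans.naturality_apply a.hom q.op x).trans ((congrArg (G.obj.map q.op) hx).trans ?_)
  rw [← ConcreteCategory.comp_apply, ← G.obj.map_comp, ← op_comp, hqp, op_id,
    CategoryTheory.Functor.map_id, ConcreteCategory.id_apply]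

theorem subsingleton_H_finite (R : Type u) [CommRing R] [HenselianLocalRing R]
    [IsSepClosed (IsLocalRing.ResidueField R)] (X : Scheme.{u}) (f : X ⟶ Spec (CommRingCat.of R))
    [IsFinite f] (F : EtCoh.Ab X) (j : ℕ) (hj : 1 ≤ j) : Subsingleton (EtCoh.H X F j) := by
  haveI := push_preservesEpimorphisms f (propB_of_integral f)
  exact subsingleton_H_of_gsec_epi X
    (fun _ _ a _ => surjective_top_of_push f (fun b _ => surjective_app_top_of_epi R b) a) F j hj

/-- Surjective etale maps to a zero dimensional affine scheme with separably closed residue fields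
split. -/
theorem exists_section_of_zeroDim {S : Scheme.{u}} [IsAffine S] (h1 : ∀ s : S, IsClosed ({s} : Set S))
    (h2 : ∀ s : S, IsSepClosed (S.residueField s)) (W : Scheme.{u}) (G : W ⟶ S) [Etale G] [Surjective G] :
    ∃ s : S ⟶ W, s ≫ G = 𝟙 S := by
  obtain ⟨E, a, _, _, hcov, -⟩ := exists_affine_etale_cover G Set.univ isCompact_univ
    (fun x _ => G.surjective x) (ι := Fin 0) (Ω := FractionRing (MvPolynomial PUnit.{u + 1} ℤ)) (fun i => i.elim0)
  let S' := Spec Γ(S, ⊤)
  obtain ⟨α, hα⟩ := Spec.map_surjective (a ≫ G ≫ S.isoSpec.hom)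
  haveI : Etale (Spec.map α) := by
    rw [hα, ← Category.assoc]
    infer_instance
  have het : α.hom.Etale := HasRingHomProperty.Spec_iff.1 ‹Etale (Spec.map α)›
  letI : Algebra Γ(S, ⊤) E := α.hom.toAlgebra
  haveI : Algebra.Etale Γ(S, ⊤) E := het
  have hdim : ∀ p : Ideal Γ(S, ⊤), p.IsPrime → p.IsMaximal := fun p hp => by
    have hc : IsClosed ({(⟨p, hp⟩ : Spec Γ(S, ⊤))} : Set (Spec Γ(S, ⊤))) := by
      have h := (h1 (S.isoSpec.inv.base (⟨p, hp⟩ : Spec Γ(S, ⊤)))).preimage S.isoSpec.inv.continuous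
      convert h using 1
      ext z
      exact ⟨fun hz => congrArg _ hz, fun hz => S.isoSpec.inv.isOpenEmbedding.injective hz⟩
    exact (PrimeSpectrum.isClosed_singleton_iff_isMaximal _).1 hc
  have hsc : ∀ (p : Ideal Γ(S, ⊤)) [p.IsMaximal], letI := Ideal.Quotient.field p;
      IsSepClosed (Γ(S, ⊤) ⧸ p) := fun p hp => by
    let q : Spec Γ(S, ⊤) := ⟨p, hp.isPrime⟩
    haveI := h2 (S.isoSpec.inv.base q)
    letI := Ideal.Quotient.field p
    let e := RingEquiv.ofBijective _ p.bijective_algebraMap_quotient_residueField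
    let φ : S.residueField (S.isoSpec.inv.base q) ⟶ (Spec Γ(S, ⊤)).residueField q :=
      S.isoSpec.inv.residueFieldMap q
    haveI : IsIso φ := inferInstanceAs (IsIso (S.isoSpec.inv.residueFieldMap q))
    have hφ : Function.Surjective φ := (ConcreteCategory.bijective_of_isIso φ).2
    refine isSepClosed_of_surjective (e.symm.toRingHom.comp
      ((Scheme.Spec.residueFieldIso Γ(S, ⊤) q).hom.hom.comp φ.hom)) ?_
    exact e.symm.surjective.comp
      (((ConcreteCategory.bijective_of_isIso (Scheme.Spec.residueFieldIso Γ(S, ⊤) q).hom).2).comp hφ)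
  have hsurj : ∀ p : Ideal Γ(S, ⊤), p.IsPrime →
      ∃ Q : Ideal E, Q.IsPrime ∧ Q.comap (algebraMap Γ(S, ⊤) E) = p := fun p hp => by
    obtain ⟨Q, hQ⟩ := hcov (Set.mem_univ (S.isoSpec.inv.base ⟨p, hp⟩))
    have h3 : (Spec.map α).base Q = ⟨p, hp⟩ := by
      apply S.isoSpec.inv.isOpenEmbedding.injective
      rw [← hQ, hα, ← Scheme.Hom.comp_apply]
      simp only [Category.assoc, Iso.hom_inv_id, Category.comp_id]
    exact ⟨Q.asIdeal, Q.2, congrArg PrimeSpectrum.asIdeal h3⟩
  obtain ⟨σ, -⟩ := exists_section_zeroDim hdim hsc hsurj (ι := Fin 0) Fin.elim0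
    (fun i => i.elim0) (fun i => i.elim0) (fun i => i.elim0)
  refine ⟨S.isoSpec.hom ≫ Spec.map (CommRingCat.ofHom σ.toRingHom) ≫ a, ?_⟩
  have e1 : Spec.map (CommRingCat.ofHom σ.toRingHom) ≫ Spec.map α = 𝟙 _ := by
    rw [← Spec.map_comp, show α ≫ CommRingCat.ofHom σ.toRingHom = 𝟙 _ from by ext r; exact σ.commutes r,
      Spec.map_id]
    rfl
  rw [hα] at e1
  rw [← cancel_mono S.isoSpec.hom]
  simp only [Category.assoc, Category.id_comp, e1]
  exact Category.comp_id _

theorem subsingleton_H_zeroDim (S : Scheme.{u}) [IsAffine S] (h1 : ∀ s : S, IsClosed ({s} : Set S))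
    (h2 : ∀ s : S, IsSepClosed (S.residueField s)) (F : EtCoh.Ab S) (i : ℕ) (hi : 1 ≤ i) :
    Subsingleton (EtCoh.H S F i) :=
  subsingleton_H_of_gsec_epi S
    (fun _ _ a _ => surjective_top_of_sections (exists_section_of_zeroDim h1 h2) a) F i hi

end GrothLib.EtBasicB
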