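import Mathlib.AlgebraicGeometry.Morphisms.FiniteType
import Mathlib.AlgebraicGeometry.Morphisms.Finite
import Mathlib.AlgebraicGeometry.Morphisms.ClosedImmersion
import Mathlib.AlgebraicGeometry.ResidueField
import Mathlib.RingTheory.Jacobson.Ring
import Mathlib.RingTheory.Artinian.Ring
import Mathlib.RingTheory.Localization.Integral
import Mathlib.RingTheory.LocalRing.ResidueField.Defs

/-!
# Points of finite type
-/

universe u

open AlgebraicGeometry CategoryTheory TopologicalSpace

namespace GrothLib.EtBasicB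

/-- finite type field: the kernel is maximal away from one element -/
theorem exists_eq_of_notMem (A L : Type u) [CommRing A] [Field L] [Algebra A L]
    [Algebra.FiniteType A L] :
    ∃ a : A, a ∉ RingHom.ker (algebraMap A L) ∧
      ∀ q : Ideal A, q.IsPrime → RingHom.ker (algebraMap A L) ≤ q → a ∉ q →
        q = RingHom.ker (algebraMap A L) := by
  classical
  let p := RingHom.ker (algebraMap A L)
  haveI : p.IsPrime := RingHom.ker_isPrime _
  let D := A ⧸ p
  letI : Algebra D L := (RingHom.kerLift (algebraMap A L)).toAlgebra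
  haveI : IsScalarTower A D L := IsScalarTower.of_algebraMap_eq fun _ => rfl
  have hinj : Function.Injective (algebraMap D L) := RingHom.kerLift_injective _
  haveI : Algebra.FiniteType D L := Algebra.FiniteType.of_restrictScalars_finiteType A D L
  let K := FractionRing D
  letI : Algebra K L := (IsFractionRing.lift hinj).toAlgebra
  haveI : IsScalarTower D K L :=
    IsScalarTower.of_algebraMap_eq fun x => (IsFractionRing.lift_algebraMap hinj x).symm
  haveI : Algebra.FiniteType K L := Algebra.FiniteType.of_restrictScalars_finiteType D K L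
  haveI : Module.Finite K L := finite_of_finite_type_of_isJacobsonRing K L
  obtain ⟨G, hG⟩ := Algebra.FiniteType.out (R := D) (A := L)
  have key : ∀ g : L, ∃ b : D, b ≠ 0 ∧ IsIntegral D (algebraMap D L b * g) := fun g => by
    obtain ⟨b, hb⟩ := IsIntegral.exists_multiple_integral_of_isLocalization (nonZeroDivisors D) g
      (Algebra.IsIntegral.isIntegral (R := K) g)
    refine ⟨b, nonZeroDivisors.coe_ne_zero b, ?_⟩
    rwa [← Algebra.smul_def]
  choose b hb0 hb using key
  let β : D := ∏ g ∈ G, b g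
  have hβ : β ≠ 0 := Finset.prod_ne_zero_iff.2 fun g _ => hb0 g
  obtain ⟨a, ha⟩ := Ideal.Quotient.mk_surjective β
  refine ⟨a, fun h => hβ (ha ▸ Ideal.Quotient.eq_zero_iff_mem.2 h), fun q hq hpq haq => ?_⟩
  refine le_antisymm (fun x hx => ?_) hpq
  by_contra hxp
  let E := Localization.Away β
  have hu : IsUnit (algebraMap D L β) :=
    isUnit_iff_ne_zero.2 fun h => hβ (hinj (h.trans (map_zero _).symm))
  letI : Algebra E L := (IsLocalization.Away.lift β hu : E →+* L).toAlgebra
  haveI : IsScalarTower D E L :=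
    IsScalarTower.of_algebraMap_eq fun x => (IsLocalization.Away.lift_eq β hu x).symm
  haveI : Algebra.IsIntegral E L := by
    refine ⟨fun z => ?_⟩
    have hz : z ∈ Algebra.adjoin D (G : Set L) := hG ▸ Algebra.mem_top
    induction hz using Algebra.adjoin_induction with
    | mem g hg =>
      have hbu : IsUnit (algebraMap D E (b g)) :=
        isUnit_of_dvd_unit (map_dvd _ (Finset.dvd_prod_of_mem b hg))
          (IsLocalization.Away.algebraMap_isUnit β)
      obtain ⟨v, hv⟩ := hbu
      have h1 : IsIntegral E (algebraMap D L (b g) * g) := (hb g).tower_top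
      have h2 : IsIntegral E (algebraMap E L (↑v⁻¹ : E)) := isIntegral_algebraMap
      have := h2.mul h1
      rwa [← mul_assoc, IsScalarTower.algebraMap_apply D E L, ← hv, ← map_mul, Units.inv_mul, map_one,
        one_mul] at this
    | algebraMap r => rw [IsScalarTower.algebraMap_apply D E L]; exact isIntegral_algebraMap
    | add _ _ _ _ h1 h2 => exact h1.add h2
    | mul _ _ _ _ h1 h2 => exact h1.mul h2
  have hEinj : Function.Injective (algebraMap E L) := by
    rw [IsLocalization.injective_iff_map_algebraMap_eq (M := Submonoid.powers β)]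
    intro r s
    rw [← IsScalarTower.algebraMap_apply, ← IsScalarTower.algebraMap_apply]
    exact ⟨fun h => congrArg _ ((IsLocalization.injective E (powers_le_nonZeroDivisors_of_noZeroDivisors hβ)) h),
      fun h => congrArg _ (hinj h)⟩
  have hE : IsField E := isField_of_isIntegral_of_isField hEinj (Field.toIsField L)
  have hx0 : algebraMap D E (Ideal.Quotient.mk p x) ≠ 0 := fun h => hxp
    (Ideal.Quotient.eq_zero_iff_mem.1 ((IsLocalization.injective E
      (powers_le_nonZeroDivisors_of_noZeroDivisors hβ)) (h.trans (map_zero _).symm)))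
  obtain ⟨y, hy⟩ := hE.mul_inv_cancel hx0
  obtain ⟨⟨c, ⟨_, n, rfl⟩⟩, hc⟩ := IsLocalization.surj (Submonoid.powers β) y
  obtain ⟨c', rfl⟩ := Ideal.Quotient.mk_surjective c
  have h3 : algebraMap D E (Ideal.Quotient.mk p x * Ideal.Quotient.mk p c') = algebraMap D E (β ^ n) := by
    simp only at hc
    rw [map_mul, ← hc, ← mul_assoc, hy, one_mul]
  have h4 := IsLocalization.injective E (powers_le_nonZeroDivisors_of_noZeroDivisors hβ) h3
  rw [← ha, ← map_mul, ← map_pow, Ideal.Quotient.mk_eq_mk_iff_sub_mem] at h4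
  have h5 : a ^ n ∈ q := by
    have := q.sub_mem (q.mul_mem_right c' hx) (hpq h4)
    simpa using this
  exact haq (hq.mem_of_pow_mem n h5)

/-- a point closed in an affine open is the image of a field of finite type over it -/
theorem exists_affine_isClosed {S : Scheme.{u}} {L : Type u} [Field L]
    (g : Spec (CommRingCat.of L) ⟶ S) [LocallyOfFiniteType g] (l : Spec (CommRingCat.of L)) :
    ∃ U : S.Opens, IsAffineOpen U ∧ ∃ hu : g.base l ∈ U, IsClosed ({⟨g.base l, hu⟩} : Set U) := by
  obtain ⟨V, hV, hlV, -⟩ := exists_isAffineOpen_mem_and_subset (U := ⊤) (x := g.base l) trivial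
  haveI := isAffineOpen_top (Spec (CommRingCat.of L))
  have e : (⊤ : (Spec (CommRingCat.of L)).Opens) ≤ g ⁻¹ᵁ V := fun z _ => by
    change g.base z ∈ V
    rwa [Subsingleton.elim z l]
  let φ : Γ(S, V) ⟶ CommRingCat.of L := g.appLE V ⊤ e ≫ (Scheme.ΓSpecIso (CommRingCat.of L)).hom
  have hφ : φ.hom.FiniteType :=
    RingHom.FiniteType.comp (RingHom.FiniteType.of_surjective _
      (ConcreteCategory.bijective_of_isIso (Scheme.ΓSpecIso (CommRingCat.of L)).hom).surjective)
      (HasRingHomProperty.appLE @LocallyOfFiniteType g inferInstance ⟨V, hV⟩ ⟨_, isAffineOpen_top _⟩ e)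
  have hg : g = Spec.map φ ≫ hV.fromSpec := by
    have := hV.SpecMap_appLE_fromSpec g (isAffineOpen_top _) e
    rw [IsAffineOpen.fromSpec_top] at this
    rw [Spec.map_comp, Category.assoc, this, Scheme.isoSpec_Spec_inv]
    simp
  algebraize [φ.hom]
  obtain ⟨a, ha, hmax⟩ := exists_eq_of_notMem Γ(S, V) L
  let P : Spec Γ(S, V) := (Spec.map φ).base l
  have hP : P.asIdeal = RingHom.ker (algebraMap Γ(S, V) L) := by
    change l.asIdeal.comap φ.hom = _
    have : l.asIdeal = ⊥ := (Ideal.eq_bot_or_top _).resolve_right l.2.ne_top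
    rw [this]; rfl
  have hPe : g.base l = hV.fromSpec.base P := by rw [hg]; rfl
  have hbo : ∀ Q : Spec Γ(S, V), hV.fromSpec.base Q ∈ S.basicOpen a ↔ a ∉ Q.asIdeal := fun Q => by
    change Q ∈ hV.fromSpec ⁻¹ᵁ S.basicOpen a ↔ _
    rw [hV.fromSpec_preimage_basicOpen]
    rfl
  have hmem : g.base l ∈ S.basicOpen a := by rw [hPe, hbo, hP]; exact ha
  refine ⟨S.basicOpen a, hV.basicOpen a, hmem, ?_⟩
  rw [← closure_subset_iff_isClosed]
  intro w hw
  refine Subtype.ext ?_
  have hws : g.base l ⤳ w.1 :=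
    (specializes_iff_mem_closure.2 hw).map continuous_subtype_val
  obtain ⟨Q, hQ⟩ : w.1 ∈ Set.range hV.fromSpec.base := by
    rw [hV.range_fromSpec]; exact S.basicOpen_le a w.2
  rw [hPe, ← hQ, hV.fromSpec.isOpenEmbedding.isEmbedding.isInducing.specializes_iff] at hws
  replace hws := (PrimeSpectrum.le_iff_specializes _ _).2 hws
  have := hmax Q.asIdeal Q.2 (hP ▸ hws) ((hbo Q).1 (hQ.symm ▸ w.2))
  exact (hQ.symm.trans (congrArg _ (show Q = P from PrimeSpectrum.ext (this.trans hP.symm)))).trans hPe.symm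

/-- a point closed in an affine open is a finite type point -/
theorem locallyOfFiniteType_of_isClosed {S : Scheme.{u}} (s : S) (U : S.Opens)
    (hs : s ∈ U) (hc : IsClosed ({⟨s, hs⟩} : Set U)) :
    LocallyOfFiniteType (S.fromSpecResidueField s) := by
  haveI : IsClosedImmersion ((U : Scheme.{u}).fromSpecResidueField ⟨s, hs⟩) :=
    isClosed_singleton_iff_isClosedImmersion.1 hc
  have h := Scheme.Hom.SpecMap_residueFieldMap_fromSpecResidueField U.ι (⟨s, hs⟩ : (U : Scheme.{u}))
  have h' : LocallyOfFiniteType (Spec.map (U.ι.residueFieldMap (⟨s, hs⟩ : (U : Scheme.{u}))) ≫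
      S.fromSpecResidueField (U.ι.base (⟨s, hs⟩ : (U : Scheme.{u})))) := by
    rw [h]
    infer_instance
  let r := U.ι.residueFieldMap (⟨s, hs⟩ : (U : Scheme.{u}))
  haveI : IsIso r := inferInstance
  haveI : IsIso (Spec.map r) := inferInstance
  exact (MorphismProperty.cancel_left_of_respectsIso @LocallyOfFiniteType (Spec.map r) _).1 h'

theorem exists_isClosed_congr {S : Scheme.{u}} {x y : S} (e : x = y)
    (h : ∃ U : S.Opens, IsAffineOpen U ∧ ∃ hs : x ∈ U, IsClosed ({⟨x, hs⟩} : Set U)) :
    ∃ U : S.Opens, IsAffineOpen U ∧ ∃ hs : y ∈ U, IsClosed ({⟨y, hs⟩} : Set U) := by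
  subst e
  exact h

theorem mem_iff_exists_affineOpen_isClosed (S : Scheme.{u}) (s : S) :
    LocallyOfFiniteType (S.fromSpecResidueField s) ↔
      ∃ U : S.Opens, IsAffineOpen U ∧ ∃ hs : s ∈ U, IsClosed ({⟨s, hs⟩} : Set U) := by
  refine ⟨fun h => ?_, fun ⟨U, _, hs, hc⟩ => locallyOfFiniteType_of_isClosed s U hs hc⟩
  have := exists_affine_isClosed (L := S.residueField s) (S.fromSpecResidueField s)
    (IsLocalRing.closedPoint (S.residueField s))
  exact exists_isClosed_congr (Scheme.fromSpecResidueField_apply _ _) this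

theorem nonempty_inter_ftPoints {S : Scheme.{u}} (Z : Set S) (hZ : IsLocallyClosed Z) (hne : Z.Nonempty) :
    (Z ∩ {s : S | LocallyOfFiniteType (S.fromSpecResidueField s)}).Nonempty := by
  obtain ⟨O, C, hO, hC, rfl⟩ := hZ
  obtain ⟨z, hzO, hzC⟩ := hne
  obtain ⟨U, hU, hzU, hUO⟩ := exists_isAffineOpen_mem_and_subset (U := ⟨O, hO⟩) (x := z) hzO
  haveI : CompactSpace ↥(U : TopologicalSpace.Opens S) := (isCompact_iff_compactSpace.1 hU.isCompact :)
  have hCU : IsClosed ((Subtype.val : U → S) ⁻¹' C) := hC.preimage continuous_subtype_val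
  obtain ⟨w, hwC, hwc⟩ := hCU.exists_closed_singleton ⟨⟨z, hzU⟩, hzC⟩
  exact ⟨w.1, ⟨hUO w.2, hwC⟩, locallyOfFiniteType_of_isClosed w.1 U w.2 hwc⟩

theorem nonempty_inter_and_dense (S : Scheme.{u}) :
    (∀ Z : Set S, IsLocallyClosed Z → Z.Nonempty →
        (Z ∩ {s : S | LocallyOfFiniteType (S.fromSpecResidueField s)}).Nonempty) ∧
      ∀ Z : Set S, IsClosed Z →
        Z ⊆ closure (Z ∩ {s : S | LocallyOfFiniteType (S.fromSpecResidueField s)}) := by
  refine ⟨nonempty_inter_ftPoints, fun Z hZ z hz => mem_closure_iff.2 fun W hW hzW => ?_⟩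
  obtain ⟨w, ⟨hwW, hwZ⟩, hw⟩ := nonempty_inter_ftPoints (W ∩ Z) ⟨W, Z, hW, hZ, rfl⟩ ⟨z, hzW, hz⟩
  exact ⟨w, hwW, hwZ, hw⟩

theorem image_subset {T S : Scheme.{u}} (f : T ⟶ S) [LocallyOfFiniteType f] :
    f.base '' {t : T | LocallyOfFiniteType (T.fromSpecResidueField t)} ⊆
      {s : S | LocallyOfFiniteType (S.fromSpecResidueField s)} := by
  rintro _ ⟨t, ht, rfl⟩
  haveI : LocallyOfFiniteType (T.fromSpecResidueField t) := ht
  have := exists_affine_isClosed (L := T.residueField t) (T.fromSpecResidueField t ≫ f)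
    (IsLocalRing.closedPoint (T.residueField t))
  rw [Set.mem_setOf_eq, mem_iff_exists_affineOpen_isClosed]
  exact exists_isClosed_congr
    ((Scheme.Hom.comp_apply _ _ _).trans (congrArg f.base (Scheme.fromSpecResidueField_apply _ _))) this

theorem image_eq {T S : Scheme.{u}} (f : T ⟶ S) [LocallyOfFiniteType f] [Surjective f] :
    f.base '' {t : T | LocallyOfFiniteType (T.fromSpecResidueField t)} =
      {s : S | LocallyOfFiniteType (S.fromSpecResidueField s)} := by
  refine subset_antisymm (image_subset f) fun s hs => ?_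
  obtain ⟨U, -, hsU, hc⟩ := (mem_iff_exists_affineOpen_isClosed S s).1 hs
  obtain ⟨C, hC, hCs⟩ := isClosed_induced_iff.1 hc
  have hsing : {s} = (U : Set S) ∩ C := by
    ext y
    refine ⟨fun hy => ?_, fun ⟨hyU, hyC⟩ => ?_⟩
    · obtain rfl : y = s := hy
      exact ⟨hsU, (hCs.ge rfl : (⟨y, hsU⟩ : U) ∈ Subtype.val ⁻¹' C)⟩
    · exact congrArg Subtype.val (hCs.le (show (⟨y, hyU⟩ : U) ∈ Subtype.val ⁻¹' C from hyC))
  obtain ⟨t, ht, htf⟩ := nonempty_inter_ftPoints (f.base ⁻¹' {s})
    ⟨f.base ⁻¹' U, f.base ⁻¹' C, U.2.preimage f.continuous, hC.preimage f.continuous, by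
      rw [hsing]; rfl⟩
    (Set.singleton_nonempty s |>.preimage f.surjective)
  exact ⟨t, htf, ht⟩

theorem locallyOfFiniteType_from_field_iff (S : Scheme.{u}) (k : Type u) [Field k]
    (f : Spec (CommRingCat.of k) ⟶ S) :
    LocallyOfFiniteType f ↔
      ∃ U : S.Opens, IsAffineOpen U ∧ ∃ hu : f.base (IsLocalRing.closedPoint k) ∈ U,
        IsClosed ({⟨f.base (IsLocalRing.closedPoint k), hu⟩} : Set U) ∧
          (f.residueFieldMap (IsLocalRing.closedPoint k)).hom.Finite := by
  let l : Spec (CommRingCat.of k) := IsLocalRing.closedPoint k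
  have hk : IsClosedImmersion ((Spec (CommRingCat.of k)).fromSpecResidueField l) :=
    isClosed_singleton_iff_isClosedImmersion.1 (by
      rw [Set.eq_univ_of_forall fun x => Set.mem_singleton_iff.2 (Subsingleton.elim x l)]
      exact isClosed_univ)
  haveI hl : IsIso ((Spec (CommRingCat.of k)).fromSpecResidueField l) := by
    haveI : Surjective ((Spec (CommRingCat.of k)).fromSpecResidueField l) :=
      ⟨fun x => ⟨IsLocalRing.closedPoint _, Subsingleton.elim _ _⟩⟩
    exact isIso_of_isClosedImmersion_of_surjective _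
  have hcomm := Scheme.Hom.SpecMap_residueFieldMap_fromSpecResidueField f l
  constructor
  · intro hf
    obtain ⟨U, hU, hu, hc⟩ := exists_affine_isClosed f l
    refine ⟨U, hU, hu, hc, ?_⟩
    have h1 : LocallyOfFiniteType (Spec.map (f.residueFieldMap l) ≫ S.fromSpecResidueField (f.base l)) := by
      rw [hcomm]; infer_instance
    haveI := locallyOfFiniteType_of_comp (Spec.map (f.residueFieldMap l)) (S.fromSpecResidueField (f.base l))
    have h2 := (HasRingHomProperty.Spec_iff (P := @LocallyOfFiniteType)).1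
      ‹LocallyOfFiniteType (Spec.map (f.residueFieldMap l))›
    exact RingHom.finite_iff_finiteType_of_isJacobsonRing.2 h2
  · rintro ⟨U, hU, hu, hc, hfin⟩
    haveI := locallyOfFiniteType_of_isClosed _ U hu hc
    haveI : LocallyOfFiniteType (Spec.map (f.residueFieldMap l)) :=
      (HasRingHomProperty.Spec_iff (P := @LocallyOfFiniteType)).2 hfin.finiteType
    have h2 : LocallyOfFiniteType ((Spec (CommRingCat.of k)).fromSpecResidueField l ≫ f) := by
      rw [← hcomm]; infer_instance
    exact (MorphismProperty.cancel_left_of_respectsIso @LocallyOfFiniteType _ _).1 h2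

end GrothLib.EtBasicB
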