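import Mathlib.AlgebraicGeometry.Morphisms.Etale
import Mathlib.AlgebraicGeometry.Noetherian
import Mathlib.RingTheory.Unramified.Field
import Mathlib.RingTheory.Flat.FaithfullyFlat.Algebra
import Mathlib.RingTheory.Ideal.MinimalPrime.Noetherian

/-!
# Reducedness along etale morphisms
-/

universe u

open AlgebraicGeometry CategoryTheory TensorProduct

namespace GrothLib.EtBasicB

/-- a flat, unramified, essentially finite type algebra over a reduced Noetherian ring is reduced -/
theorem isReduced_of_flat_unramified (A B : Type u) [CommRing A] [CommRing B] [Algebra A B]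
    [IsNoetherianRing A] [_root_.IsReduced A] [Module.Flat A B] [Algebra.FormallyUnramified A B]
    [Algebra.EssFiniteType A B] : _root_.IsReduced B := by
  let K (p : minimalPrimes A) : Type u :=
    haveI : p.1.IsPrime := Ideal.minimalPrimes_isPrime p.2
    p.1.ResidueField
  have : Finite (minimalPrimes A) := (minimalPrimes.finite_of_isNoetherianRing A).to_subtype
  letI iC (p : minimalPrimes A) : Field (K p) :=
    haveI : p.1.IsPrime := Ideal.minimalPrimes_isPrime p.2
    inferInstanceAs (Field p.1.ResidueField)
  letI iA (p : minimalPrimes A) : Algebra A (K p) :=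
    haveI : p.1.IsPrime := Ideal.minimalPrimes_isPrime p.2
    inferInstanceAs (Algebra A p.1.ResidueField)
  let φ : A →ₗ[A] ∀ p, K p := LinearMap.pi fun p => (Algebra.linearMap A (K p))
  have hφ : Function.Injective φ := by
    rw [injective_iff_map_eq_zero]
    intro a ha
    have h : ∀ p : minimalPrimes A, a ∈ p.1 := fun p => by
      haveI : p.1.IsPrime := Ideal.minimalPrimes_isPrime p.2
      exact (Ideal.algebraMap_residueField_eq_zero).1 (congrFun ha p)
    have : a ∈ nilradical A := by
      rw [nilradical, Ideal.radical_eq_sInf, Ideal.mem_sInf]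
      rintro P ⟨-, hP⟩
      obtain ⟨p, hp, hpP⟩ := Ideal.exists_minimalPrimes_le (I := (⊥ : Ideal A)) (J := P) bot_le
      exact hpP (h ⟨p, hp⟩)
    rwa [nilradical_eq_zero A] at this
  let ψ : B →+* ∀ p, K p ⊗[A] B := Pi.ringHom fun p =>
    (Algebra.TensorProduct.includeRight : B →ₐ[A] K p ⊗[A] B).toRingHom
  have : ∀ p, _root_.IsReduced (K p ⊗[A] B) := fun p =>
    Algebra.FormallyUnramified.isReduced_of_field (K p) _
  have : DecidableEq (minimalPrimes A) := Classical.decEq _
  have : Fintype (minimalPrimes A) := Fintype.ofFinite _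
  have hψ : Function.Injective ψ := by
    rw [injective_iff_map_eq_zero]
    intro b hb
    have h1 : φ.rTensor B ((1 : A) ⊗ₜ b) = 0 := by
      rw [LinearMap.rTensor_tmul]
      apply (TensorProduct.piLeft A B K).injective
      rw [map_zero]
      funext p
      have h3 : (1 : K p) ⊗ₜ[A] b = 0 := congrFun hb p
      simpa [φ] using h3
    have h2 := (Module.Flat.rTensor_preserves_injective_linearMap φ hφ) (h1.trans (map_zero _).symm)
    simpa using congrArg (TensorProduct.lid A B) h2
  exact isReduced_of_injective ψ hψ

theorem isReduced_stalk_iff_of_etale {X Y : Scheme.{u}} (f : X ⟶ Y) [Etale f]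
    [IsLocallyNoetherian Y] (x : X) :
    _root_.IsReduced (X.presheaf.stalk x) ↔ _root_.IsReduced (Y.presheaf.stalk (f.base x)) := by
  algebraize [(f.stalkMap x).hom]
  have : Module.Flat (Y.presheaf.stalk (f.base x)) (X.presheaf.stalk x) := Flat.stalkMap f x
  have : Algebra.FormallyUnramified (Y.presheaf.stalk (f.base x)) (X.presheaf.stalk x) :=
    FormallyUnramified.stalkMap f x
  have : Algebra.EssFiniteType (Y.presheaf.stalk (f.base x)) (X.presheaf.stalk x) :=
    LocallyOfFiniteType.stalkMap f x
  refine ⟨fun h => ?_, fun h => isReduced_of_flat_unramified (Y.presheaf.stalk (f.base x)) _⟩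
  haveI : IsLocalHom (algebraMap (Y.presheaf.stalk (f.base x)) (X.presheaf.stalk x)) :=
    inferInstanceAs (IsLocalHom (f.stalkMap x).hom)
  haveI := Module.FaithfullyFlat.of_flat_of_isLocalHom
    (A := Y.presheaf.stalk (f.base x)) (B := X.presheaf.stalk x)
  exact isReduced_of_injective (algebraMap (Y.presheaf.stalk (f.base x)) (X.presheaf.stalk x))
    (FaithfulSMul.algebraMap_injective _ _)

end GrothLib.EtBasicB
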