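import Mathlib.AlgebraicGeometry.Morphisms.FiniteType
import Mathlib.RingTheory.Artinian.Ring
import Mathlib.RingTheory.HopkinsLevitzki
import Mathlib.RingTheory.LocalRing.ResidueField.Defs

/-!
# Morphisms of finite type from artinian local schemes
-/

universe u

open AlgebraicGeometry CategoryTheory

namespace GrothLib.EtBasicB

theorem finiteType_of_residue (R A : Type u) [CommRing R] [CommRing A] [Algebra R A]
    [IsArtinianRing A] [IsLocalRing A]
    (h : ((IsLocalRing.residue A).comp (algebraMap R A)).FiniteType) : Algebra.FiniteType R A := by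
  classical
  let κ := IsLocalRing.ResidueField A
  letI : Algebra R κ := ((IsLocalRing.residue A).comp (algebraMap R A)).toAlgebra
  obtain ⟨s, hs⟩ : (⊤ : Subalgebra R κ).FG := (h : Algebra.FiniteType R κ).out
  choose l hl using fun x : κ => IsLocalRing.residue_surjective (R := A) x
  obtain ⟨G, hG⟩ := (IsLocalRing.maximalIdeal A).fg_of_isNoetherianRing
  let S : Subalgebra R A := Algebra.adjoin R (↑(s.image l) ∪ ↑G)
  let π : A →ₐ[R] κ := ⟨IsLocalRing.residue A, fun _ => rfl⟩
  have h0 : ∀ a : A, ∃ t ∈ S, a - t ∈ IsLocalRing.maximalIdeal A := by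
    intro a
    have : π a ∈ S.map π := by
      have : (⊤ : Subalgebra R κ) ≤ S.map π := by
        rw [← hs, Algebra.adjoin_le_iff]
        intro x hx
        exact ⟨l x, Algebra.subset_adjoin (Or.inl (Finset.mem_image_of_mem _ hx)), hl x⟩
      exact this trivial
    obtain ⟨t, ht, hta⟩ := this
    exact ⟨t, ht, (IsLocalRing.residue_eq_zero_iff _).1 (by
      rw [map_sub, sub_eq_zero]; exact hta.symm)⟩
  have hn : ∀ n, ∀ a ∈ IsLocalRing.maximalIdeal A ^ n, ∃ t ∈ S,
      a - t ∈ IsLocalRing.maximalIdeal A ^ (n + 1) := by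
    intro n
    induction n with
    | zero => intro a _; simpa using h0 a
    | succ n ih =>
      intro a ha
      rw [pow_succ] at ha
      induction ha using Submodule.mul_induction_on' with
      | mem_mul_mem x hx y hy =>
        rw [← hG] at hy
        revert x
        induction hy using Submodule.span_induction with
        | mem g hg =>
          intro x hx
          obtain ⟨t, ht, htm⟩ := ih x hx
          refine ⟨t * g, S.mul_mem ht (Algebra.subset_adjoin (Or.inr hg)), ?_⟩
          rw [← sub_mul, pow_succ]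
          exact Ideal.mul_mem_mul htm (hG ▸ Ideal.subset_span hg)
        | zero => intro x _; exact ⟨0, S.zero_mem, by simp⟩
        | add y z _ _ h1 h2 =>
          intro x hx
          obtain ⟨t, ht, htm⟩ := h1 x hx
          obtain ⟨t', ht', htm'⟩ := h2 x hx
          refine ⟨t + t', S.add_mem ht ht', ?_⟩
          rw [mul_add, add_sub_add_comm]
          exact add_mem htm htm'
        | smul c y _ h1 =>
          intro x hx
          obtain ⟨t, ht, htm⟩ := h1 (x * c) (Ideal.mul_mem_right _ _ hx)
          exact ⟨t, ht, by rwa [smul_eq_mul, ← mul_assoc]⟩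
      | add y _ z _ h1 h2 =>
        obtain ⟨t, ht, htm⟩ := h1
        obtain ⟨t', ht', htm'⟩ := h2
        refine ⟨t + t', S.add_mem ht ht', ?_⟩
        rw [add_sub_add_comm]
        exact add_mem htm htm'
  have hm : ∀ n, ∀ a : A, ∃ t ∈ S, a - t ∈ IsLocalRing.maximalIdeal A ^ n := by
    intro n
    induction n with
    | zero => intro a; exact ⟨0, S.zero_mem, by simp⟩
    | succ n ih =>
      intro a
      obtain ⟨t, ht, htm⟩ := ih a
      obtain ⟨t', ht', htm'⟩ := hn n _ htm
      exact ⟨t + t', S.add_mem ht ht', by rwa [← sub_sub]⟩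
  obtain ⟨N, hN⟩ := IsArtinianRing.isNilpotent_jacobson_bot (R := A)
  rw [IsLocalRing.jacobson_eq_maximalIdeal ⊥ bot_ne_top] at hN
  refine ⟨⟨s.image l ∪ G, ?_⟩⟩
  rw [Finset.coe_union, eq_top_iff]
  intro a _
  obtain ⟨t, ht, htm⟩ := hm N a
  rw [hN, Submodule.zero_eq_bot, Submodule.mem_bot, sub_eq_zero] at htm
  exact htm ▸ ht

theorem finiteType_from_artinian_local_iff (S : Scheme.{u}) (A : Type u) [CommRing A]
    [IsArtinianRing A] [IsLocalRing A] (f : Spec (CommRingCat.of A) ⟶ S) :
    LocallyOfFiniteType f ↔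
      LocallyOfFiniteType (Spec.map (CommRingCat.ofHom (IsLocalRing.residue A)) ≫ f) := by
  haveI : LocallyOfFiniteType (Spec.map (CommRingCat.ofHom (IsLocalRing.residue A))) :=
    (HasRingHomProperty.Spec_iff (P := @LocallyOfFiniteType)).2
      (RingHom.FiniteType.of_surjective _ IsLocalRing.residue_surjective)
  refine ⟨fun _ => inferInstance, fun h => ?_⟩
  let z : Spec (CommRingCat.of A) := IsLocalRing.closedPoint A
  obtain ⟨V, hV, hzV, -⟩ := exists_isAffineOpen_mem_and_subset (U := ⊤) (x := f.base z) trivial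
  have e : (⊤ : (Spec (CommRingCat.of A)).Opens) ≤ f ⁻¹ᵁ V := fun w _ =>
    ((IsLocalRing.specializes_closedPoint w).map f.continuous).mem_open V.2 hzV
  let φ : Γ(S, V) ⟶ CommRingCat.of A := f.appLE V ⊤ e ≫ (Scheme.ΓSpecIso (CommRingCat.of A)).hom
  have hf : f = Spec.map φ ≫ hV.fromSpec := by
    have := hV.SpecMap_appLE_fromSpec f (isAffineOpen_top _) e
    rw [IsAffineOpen.fromSpec_top] at this
    rw [Spec.map_comp, Category.assoc, this, Scheme.isoSpec_Spec_inv]
    simp
  rw [hf, ← Category.assoc, ← Spec.map_comp] at h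
  haveI := locallyOfFiniteType_of_comp (Spec.map (φ ≫ CommRingCat.ofHom (IsLocalRing.residue A)))
    hV.fromSpec
  have h1 := (HasRingHomProperty.Spec_iff (P := @LocallyOfFiniteType)).1
    ‹LocallyOfFiniteType (Spec.map (φ ≫ CommRingCat.ofHom (IsLocalRing.residue A)))›
  algebraize [φ.hom]
  have h2 : φ.hom.FiniteType := finiteType_of_residue Γ(S, V) A h1
  haveI : LocallyOfFiniteType (Spec.map φ) :=
    (HasRingHomProperty.Spec_iff (P := @LocallyOfFiniteType)).2 h2
  rw [hf]
  infer_instance

end GrothLib.EtBasicB
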