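import Mathlib.AlgebraicGeometry.Morphisms.Finite
import Mathlib.AlgebraicGeometry.Morphisms.FormallyUnramified
import Mathlib.AlgebraicGeometry.Morphisms.Etale
import Mathlib.AlgebraicGeometry.Morphisms.ClosedImmersion
import Mathlib.AlgebraicGeometry.Morphisms.FlatMono
import Mathlib.AlgebraicGeometry.ResidueField
import Mathlib.RingTheory.Unramified.Field
import Mathlib.RingTheory.LocalRing.Module
import Mathlib.RingTheory.Support

/-!
# Finite unramified morphisms with a one-point fibre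
-/

universe u

open AlgebraicGeometry CategoryTheory TensorProduct TopologicalSpace

namespace GrothLib.EtBasicB

/-- finite unramified algebra with one prime over `p` and trivial residue extension -/
theorem exists_smul_mem_range (A B : Type u) [CommRing A] [CommRing B] [Algebra A B]
    [Module.Finite A B] [Algebra.FormallyUnramified A B] (p : Ideal A) [p.IsPrime] (q : Ideal B)
    (huniq : ∀ Q : Ideal B, Q.IsPrime → Q.comap (algebraMap A B) = p → Q = q)
    (hsurj : ∀ b : B, ∃ a c : A, c ∉ p ∧ c • b - algebraMap A B a ∈ q) :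
    ∃ e : A, e ∉ p ∧ ∀ b : B, ∃ a : A, e • b = algebraMap A B a := by
  let K := p.ResidueField
  let T := K ⊗[A] B
  have hred : _root_.IsReduced T := Algebra.FormallyUnramified.isReduced_of_field K T
  have hq : ∀ x ∈ q, (1 : K) ⊗ₜ[A] x = (0 : T) := by
    intro x hx
    have : IsNilpotent ((1 : K) ⊗ₜ[A] x : T) := by
      rw [← mem_nilradical, nilradical, Ideal.radical_eq_sInf, Ideal.mem_sInf]
      rintro P ⟨-, hP⟩
      let i : B →+* T := (Algebra.TensorProduct.includeRight : B →ₐ[A] T).toRingHom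
      haveI := hP
      have hc : (P.comap i).comap (algebraMap A B) = p := by
        ext a
        have e : i (algebraMap A B a) = algebraMap K T (algebraMap A K a) := by
          change (Algebra.TensorProduct.includeRight : B →ₐ[A] T) (algebraMap A B a) = _
          rw [AlgHom.commutes, IsScalarTower.algebraMap_apply A K T]
        rw [Ideal.mem_comap, Ideal.mem_comap, e]
        refine ⟨fun h => by_contra fun ha => ?_, fun h => ?_⟩
        · exact hP.ne_top (Ideal.eq_top_of_isUnit_mem _ h ((IsUnit.mk0 _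
            (fun h0 => ha (Ideal.algebraMap_residueField_eq_zero.1 h0))).map _))
        · rw [Ideal.algebraMap_residueField_eq_zero.2 h, map_zero]
          exact P.zero_mem
      exact show x ∈ P.comap i from (huniq _ inferInstance hc).symm ▸ hx
    exact this.eq_zero
  have hK : ∀ t : T, ∃ k : K, t = k ⊗ₜ[A] (1 : B) := by
    intro t
    induction t using TensorProduct.induction_on with
    | zero => exact ⟨0, (zero_tmul _ _).symm⟩
    | tmul k b =>
      obtain ⟨a, c, hc, hm⟩ := hsurj b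
      have hc' : algebraMap A K c ≠ 0 := fun h0 => hc (Ideal.algebraMap_residueField_eq_zero.1 h0)
      refine ⟨k * (algebraMap A K c)⁻¹ * algebraMap A K a, ?_⟩
      have h1 : ((1 : K) ⊗ₜ[A] (c • b) : T) = (1 : K) ⊗ₜ[A] algebraMap A B a := by
        have := hq _ hm
        rwa [tmul_sub, sub_eq_zero] at this
      rw [← smul_tmul, Algebra.algebraMap_eq_smul_one a, ← smul_tmul] at h1
      rw [← Algebra.algebraMap_eq_smul_one, ← Algebra.algebraMap_eq_smul_one] at h1
      have h2 := congrArg (fun z : T => ((k * (algebraMap A K c)⁻¹) ⊗ₜ[A] (1 : B) : T) * z) h1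
      simp only [T, Algebra.TensorProduct.tmul_mul_tmul, one_mul] at h2
      rwa [mul_assoc k _ (algebraMap A K c), inv_mul_cancel₀ hc', mul_one] at h2
    | add x y hx hy =>
      obtain ⟨k, rfl⟩ := hx
      obtain ⟨l, rfl⟩ := hy
      exact ⟨k + l, (add_tmul _ _ _).symm⟩
  let f : A →ₗ[A] B := Algebra.linearMap A B
  have hsub : Subsingleton (K ⊗[A] (B ⧸ LinearMap.range f)) := by
    refine subsingleton_of_forall_eq 0 fun z => ?_
    obtain ⟨t, rfl⟩ := LinearMap.lTensor_surjective K (Submodule.mkQ_surjective (LinearMap.range f)) z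
    obtain ⟨k, rfl⟩ := hK t
    rw [LinearMap.lTensor_tmul, Submodule.mkQ_apply, (Submodule.Quotient.mk_eq_zero (LinearMap.range f)).2 (LinearMap.mem_range.2 ⟨1, by simp [f]⟩),
      tmul_zero]
  have hns : (⟨p, inferInstance⟩ : PrimeSpectrum A) ∉ Module.support A (B ⧸ LinearMap.range f) := by
    rw [Module.mem_support_iff_nontrivial_residueField_tensorProduct, not_nontrivial_iff_subsingleton]
    exact hsub
  rw [Module.support_eq_zeroLocus, PrimeSpectrum.mem_zeroLocus, Set.not_subset] at hns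
  obtain ⟨e, he, hep⟩ := hns
  refine ⟨e, hep, fun b => ?_⟩
  have := Module.mem_annihilator.1 he (Submodule.Quotient.mk b)
  rw [← Submodule.Quotient.mk_smul, Submodule.Quotient.mk_eq_zero] at this
  obtain ⟨a, ha⟩ := this
  exact ⟨a, ha.symm⟩

theorem exists_nhd_isClosedImmersion {X S : Scheme.{u}} (f : X ⟶ S) [IsFinite f]
    [FormallyUnramified f] (s : S) (x : X) (hx : f.base ⁻¹' {s} = {x})
    (hκ : Function.Surjective (f.residueFieldMap x)) :
    ∃ U : S.Opens, s ∈ U ∧ IsClosedImmersion (f ∣_ U) := by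
  obtain ⟨U₀, hU₀, hsU₀, -⟩ := exists_isAffineOpen_mem_and_subset (U := ⊤) (x := s) trivial
  have hxs : f.base x = s := (hx.ge rfl : x ∈ f.base ⁻¹' {s})
  have hV : IsAffineOpen (f ⁻¹ᵁ U₀) := hU₀.preimage f
  have hxV : x ∈ f ⁻¹ᵁ U₀ := show f.base x ∈ U₀ from hxs ▸ hsU₀
  algebraize [(f.app U₀).hom]
  haveI : Module.Finite Γ(S, U₀) Γ(X, f ⁻¹ᵁ U₀) := IsFinite.finite_app f U₀ hU₀
  haveI : Algebra.FormallyUnramified Γ(S, U₀) Γ(X, f ⁻¹ᵁ U₀) := by
    have := HasRingHomProperty.appLE @FormallyUnramified f inferInstance ⟨U₀, hU₀⟩ ⟨_, hV⟩ le_rfl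
    rw [← Scheme.Hom.app_eq_appLE] at this
    exact this
  let p := (hU₀.primeIdealOf ⟨f.base x, hxV⟩).asIdeal
  let q := (hV.primeIdealOf ⟨x, hxV⟩).asIdeal
  haveI : p.IsPrime := (hU₀.primeIdealOf ⟨f.base x, hxV⟩).isPrime
  have huniq : ∀ Q : Ideal Γ(X, f ⁻¹ᵁ U₀), Q.IsPrime →
      Q.comap (algebraMap Γ(S, U₀) Γ(X, f ⁻¹ᵁ U₀)) = p → Q = q := by
    intro Q hQ hQp
    have h1 : f.base (hV.fromSpec.base ⟨Q, hQ⟩) = f.base x := by
      rw [← Scheme.Hom.comp_apply, ← hU₀.SpecMap_appLE_fromSpec f hV le_rfl, Scheme.Hom.comp_apply,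
        ← Scheme.Hom.app_eq_appLE]
      have : (Spec.map (f.app U₀)).base ⟨Q, hQ⟩ = hU₀.primeIdealOf ⟨f.base x, hxV⟩ :=
        PrimeSpectrum.ext hQp
      rw [this, IsAffineOpen.fromSpec_primeIdealOf]
    have h2 : hV.fromSpec.base ⟨Q, hQ⟩ = x := hx.le (h1.trans hxs)
    have h3 : (⟨Q, hQ⟩ : Spec Γ(X, f ⁻¹ᵁ U₀)) = hV.primeIdealOf ⟨x, hxV⟩ :=
      hV.fromSpec.isOpenEmbedding.injective (h2.trans (hV.fromSpec_primeIdealOf ⟨x, hxV⟩).symm)
    exact congrArg PrimeSpectrum.asIdeal h3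
  have hsurj : ∀ b : Γ(X, f ⁻¹ᵁ U₀), ∃ a c : Γ(S, U₀), c ∉ p ∧
      c • b - algebraMap Γ(S, U₀) Γ(X, f ⁻¹ᵁ U₀) a ∈ q := by
    intro b
    obtain ⟨k, hk⟩ := hκ (X.residue x (X.presheaf.germ _ x hxV b))
    obtain ⟨k', rfl⟩ := Scheme.residue_surjective _ _ k
    letI := S.presheaf.algebra_section_stalk ⟨f.base x, hxV⟩
    haveI := hU₀.isLocalization_stalk ⟨f.base x, hxV⟩
    obtain ⟨⟨a, c⟩, hac⟩ := IsLocalization.surj p.primeCompl k'
    refine ⟨a, c.1, c.2, ?_⟩
    letI := X.presheaf.algebra_section_stalk ⟨x, hxV⟩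
    haveI := hV.isLocalization_stalk ⟨x, hxV⟩
    rw [← IsLocalization.AtPrime.to_map_mem_maximal_iff (X.presheaf.stalk x) q,
      ← IsLocalRing.residue_eq_zero_iff]
    have e : ∀ r : Γ(S, U₀), X.residue x (X.presheaf.germ _ x hxV (f.app U₀ r)) =
        f.residueFieldMap x (S.residue _ (S.presheaf.germ U₀ _ hxV r)) := fun r => by
      rw [← Scheme.Hom.germ_stalkMap_apply]
      exact (ConcreteCategory.congr_hom (Scheme.residue_residueFieldMap f x) _).symm
    change X.residue x (X.presheaf.germ _ x hxV (f.app U₀ c.1 * b - f.app U₀ a)) = 0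
    rw [map_sub, map_sub, map_mul, map_mul, e, e, ← hk, ← map_mul, ← map_mul, sub_eq_zero]
    congr 1
    exact congrArg _ (by rw [mul_comm]; exact hac)
  obtain ⟨e, hep, he⟩ := exists_smul_mem_range Γ(S, U₀) Γ(X, f ⁻¹ᵁ U₀) p q huniq hsurj
  refine ⟨S.basicOpen e, ?_, ?_⟩
  · rw [← hxs, Scheme.mem_basicOpen S e (f.base x) hxV]
    letI := S.presheaf.algebra_section_stalk ⟨f.base x, hxV⟩
    haveI := hU₀.isLocalization_stalk ⟨f.base x, hxV⟩
    exact (IsLocalization.AtPrime.isUnit_to_map_iff (S.presheaf.stalk (f.base x)) p e).2 hep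
  haveI : IsAffine (S.basicOpen e) := hU₀.basicOpen e
  have hW : IsAffineOpen (f ⁻¹ᵁ S.basicOpen e) := (hU₀.basicOpen e).preimage f
  rw [HasAffineProperty.iff_of_isAffine (P := @IsClosedImmersion)]
  refine ⟨hW, ?_⟩
  suffices h : Function.Surjective (f.app (S.basicOpen e)) by
    have h' : ∀ V, V = S.basicOpen e → Function.Surjective (f.app V) := by
      rintro V rfl
      exact h
    rw [morphismRestrict_appTop]
    intro y
    obtain ⟨y', hy'⟩ := (ConcreteCategory.bijective_of_isIso (X.presheaf.map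
      (eqToHom (image_morphismRestrict_preimage f (S.basicOpen e) ⊤)).op)).surjective y
    obtain ⟨v, rfl⟩ := h' _ (Scheme.Opens.ι_image_top _) y'
    exact ⟨v, hy'⟩
  intro z
  haveI : IsAffineHom f := inferInstance
  let e' := f.app U₀ e
  haveI := hV.isLocalization_basicOpen e'
  have heq : f ⁻¹ᵁ S.basicOpen e = X.basicOpen e' := Scheme.preimage_basicOpen f e
  let w := X.presheaf.map (eqToHom heq.symm).op z
  obtain ⟨⟨b, ⟨_, n, rfl⟩⟩, hb⟩ := IsLocalization.surj (Submonoid.powers e') w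
  obtain ⟨a, ha⟩ := he b
  haveI := hU₀.isLocalization_basicOpen e
  let y := IsLocalization.mk' Γ(S, S.basicOpen e) a (⟨e ^ (n + 1), n + 1, rfl⟩ : Submonoid.powers e)
  refine ⟨y, ?_⟩
  have hy := IsLocalization.mk'_spec Γ(S, S.basicOpen e) a (⟨e ^ (n + 1), n + 1, rfl⟩ : Submonoid.powers e)
  have hy' := congrArg (fun t => X.presheaf.map (eqToHom heq.symm).op (f.app (S.basicOpen e) t)) hy
  have nat : ∀ r : Γ(S, U₀), X.presheaf.map (eqToHom heq.symm).op
      (f.app (S.basicOpen e) (algebraMap Γ(S, U₀) Γ(S, S.basicOpen e) r)) =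
        algebraMap Γ(X, f ⁻¹ᵁ U₀) Γ(X, X.basicOpen e') (f.app U₀ r) := fun r => by
    simp only [RingHom.algebraMap_toAlgebra, ← CommRingCat.comp_apply]
    rw [Scheme.Hom.naturality, Category.assoc, ← Functor.map_comp]
    rfl
  simp only [map_mul, nat] at hy'
  have hu : IsUnit (algebraMap Γ(X, f ⁻¹ᵁ U₀) Γ(X, X.basicOpen e') (f.app U₀ (e ^ (n + 1)))) := by
    rw [map_pow]
    exact IsLocalization.map_units (M := Submonoid.powers e') _ ⟨e' ^ (n + 1), n + 1, rfl⟩
  apply (ConcreteCategory.bijective_of_isIso (X.presheaf.map (eqToHom heq.symm).op)).injective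
  refine hu.mul_left_injective (hy'.trans ?_)
  change _ = w * _
  have ha' : f.app U₀ e * b = f.app U₀ a := ha
  rw [← ha', map_pow, pow_succ', map_mul, map_mul, ← hb]
  ring

theorem exists_nhd_isIso {X S : Scheme.{u}} (f : X ⟶ S) [IsFinite f]
    [Etale f] (s : S) (x : X) (hx : f.base ⁻¹' {s} = {x})
    (hκ : Function.Surjective (f.residueFieldMap x)) :
    ∃ U : S.Opens, s ∈ U ∧ IsIso (f ∣_ U) := by
  obtain ⟨U, hsU, hU⟩ := exists_nhd_isClosedImmersion f s x hx hκ
  let R : S.Opens := ⟨Set.range f.base, f.isOpenMap.isOpen_range⟩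
  refine ⟨U ⊓ R, ⟨hsU, x, hx.ge rfl⟩, ?_⟩
  haveI : IsClosedImmersion (f ∣_ (U ⊓ R)) := by
    haveI : IsClosedImmersion (f ∣_ U ∣_ (U.ι ⁻¹ᵁ R)) := IsZariskiLocalAtTarget.restrict hU _
    have e : U.ι ''ᵁ (U.ι ⁻¹ᵁ R) = U ⊓ R := by
      rw [Scheme.Hom.image_preimage_eq_opensRange_inf, Scheme.Opens.opensRange_ι]
    rw [← e]
    exact ((MorphismProperty.arrow_mk_iso_iff @IsClosedImmersion (morphismRestrictRestrict f U _)).1 this)
  haveI : Flat (f ∣_ (U ⊓ R)) := IsZariskiLocalAtTarget.restrict (inferInstanceAs (Flat f)) _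
  haveI : LocallyOfFinitePresentation (f ∣_ (U ⊓ R)) :=
    IsZariskiLocalAtTarget.restrict (inferInstanceAs (LocallyOfFinitePresentation f)) _
  haveI := IsOpenImmersion.of_flat_of_mono (f ∣_ (U ⊓ R))
  haveI : Surjective (f ∣_ (U ⊓ R)) := ⟨fun y => by
    obtain ⟨z, hz⟩ := y.2.2
    have hz' : f.base z = y.1 := hz
    refine ⟨⟨z, show f.base z ∈ U ⊓ R from hz'.symm ▸ y.2⟩, Subtype.ext ?_⟩
    rw [morphismRestrict_base]
    exact hz'⟩
  exact Flat.isIso_of_surjective_of_mono _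

end GrothLib.EtBasicB
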