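import Groth.Agent.Lib.EtBasicB.Supports
import Mathlib.AlgebraicGeometry.Morphisms.Preimmersion

/-!
# Excision for sections with support
-/

universe u

open CategoryTheory CategoryTheory.Limits AlgebraicGeometry Opposite
open GrothLib.EtSite

namespace GrothLib.EtBasicB

theorem exists_residue_factor {Ω : Type u} [Field Ω] {A : Scheme.{u}} (x : A)
    (a : Spec (CommRingCat.of Ω) ⟶ A) (ha : a.base (default : Spec (CommRingCat.of Ω)) = x) :
    ∃ ρ : A.residueField x ⟶ CommRingCat.of Ω, Spec.map ρ ≫ A.fromSpecResidueField x = a := by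
  obtain rfl : a.base (IsLocalRing.closedPoint Ω) = x := by
    rw [← ha]; exact congrArg _ (Subsingleton.elim _ _)
  exact ⟨_, Scheme.descResidueField_stalkClosedPointTo_fromSpecResidueField _ _ a⟩

theorem field_point_ext {Ω : Type u} [Field Ω] {A B : Scheme.{u}} (φ : A ⟶ B) (x : A)
    (hres : Function.Surjective (φ.residueFieldMap x))
    (a b : Spec (CommRingCat.of Ω) ⟶ A) (ha : a.base (default : Spec (CommRingCat.of Ω)) = x)
    (hb : b.base (default : Spec (CommRingCat.of Ω)) = x) (h : a ≫ φ = b ≫ φ) : a = b := by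
  obtain ⟨ρ, hρ⟩ := exists_residue_factor x a ha
  obtain ⟨σ, hσ⟩ := exists_residue_factor x b hb
  have h1 : Spec.map (φ.residueFieldMap x ≫ ρ) ≫ B.fromSpecResidueField (φ.base x) =
      Spec.map (φ.residueFieldMap x ≫ σ) ≫ B.fromSpecResidueField (φ.base x) := by
    rw [Spec.map_comp, Spec.map_comp, Category.assoc, Category.assoc,
      Scheme.Hom.SpecMap_residueFieldMap_fromSpecResidueField, ← Category.assoc, hρ, h, ← hσ,
      Category.assoc]
  rw [cancel_mono] at h1
  haveI : Epi (φ.residueFieldMap x) := ConcreteCategory.epi_of_surjective _ hres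
  have h2 : ρ = σ := (cancel_epi (φ.residueFieldMap x)).1 (Spec.map_injective h1)
  rw [← hρ, ← hσ, h2]

variable {X : Scheme.{u}}

theorem restrict_bijOn (F : EtCoh.Ab X) {U U' : X.Etale} (φ : U' ⟶ U) (Z : Set U.left)
    (hZ : IsClosed Z) (hbij : Set.BijOn φ.left.base (φ.left.base ⁻¹' Z) Z)
    (hres : ∀ x ∈ φ.left.base ⁻¹' Z, Function.Bijective (φ.left.residueFieldMap x)) :
    Set.BijOn (F.obj.map φ.op) {s | EtShriek.sectSupp F U s ⊆ Z}
      {s' | EtShriek.sectSupp F U' s' ⊆ φ.left.base ⁻¹' Z} := by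
  let O : U.left.Opens := ⟨Zᶜ, hZ.isOpen_compl⟩
  let ν : (O : Scheme.{u}) ⟶ U.left := O.ι
  haveI : Etale (U.hom : U.left ⟶ X) := U.prop
  let V : X.Etale := Scheme.Etale.mk (ν ≫ (U.hom : U.left ⟶ X))
  let j : V ⟶ U := MorphismProperty.Over.homMk ν rfl trivial
  let Y : ULift.{u} Bool → X.Etale := fun i => bif i.down then U' else V
  let π : ∀ i, Y i ⟶ U
    | ⟨true⟩ => φ
    | ⟨false⟩ => j
  have hcov : Sieve.generate (Presieve.ofArrows Y π) ∈ X.smallEtaleTopology U := by
    rw [mem_topology_iff]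
    intro u
    by_cases hu : u ∈ Z
    · obtain ⟨u', -, hu'⟩ := hbij.surjOn hu
      exact ⟨U', φ, u', ⟨_, 𝟙 _, φ, Presieve.ofArrows.mk (f := π) (⟨true⟩ : ULift.{u} Bool), Category.id_comp _⟩, hu'⟩
    · exact ⟨V, j, (⟨u, hu⟩ : O), ⟨_, 𝟙 _, j, Presieve.ofArrows.mk (f := π) (⟨false⟩ : ULift.{u} Bool), Category.id_comp _⟩, rfl⟩
  have hsh : Presieve.IsSheafFor (F.obj ⋙ forget AddCommGrpCat.{u + 1}) (Presieve.ofArrows Y π) :=
    (Presieve.isSheafFor_iff_generate _).2 ((isSheaf_iff_isSheaf_of_type _ _).1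
      (Presheaf.isSheaf_comp_of_isSheaf X.smallEtaleTopology F.obj (forget AddCommGrpCat.{u+1}) F.property) _ hcov)
  -- germs away from the support vanish
  have hout : ∀ {Ω : Type u} [Field Ω] [IsSepClosed Ω] (ξ : Spec (CommRingCat.of Ω) ⟶ X)
      {T : X.Etale} (t : (Scheme.pointSmallEtale ξ).fiber.obj T) (s : EtCoh.sect F T) (Z' : Set T.left),
      EtShriek.sectSupp F T s ⊆ Z' → t.left.base (default : Spec (CommRingCat.of Ω)) ∉ Z' →
        germ ξ F t s = 0 := fun {Ω} _ _ ξ {T} t s Z' h1 h2 =>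
    by_contra fun h => h2 (h1 ((germ_ne_zero_iff ξ F t s).1 h))
  refine ⟨fun s hs x hx => ?_, fun s₁ h₁ s₂ h₂ heq => ?_, fun s' hs' => ?_⟩
  · obtain ⟨t, ht⟩ := exists_fib (gpt (U'.hom.base x)) x (gpt_default _).symm
    have h := (germ_ne_zero_iff _ F t (F.obj.map φ.op s)).2 (by rw [ht]; exact hx)
    rw [germ_map, germ_ne_zero_iff] at h
    rw [← ht]
    exact hs h
  · rw [← sub_eq_zero]
    refine section_eq_zero_of_germs F U _ fun Ω _ _ ξ t => ?_
    by_cases ht : t.left.base (default : Spec (CommRingCat.of Ω)) ∈ Z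
    · obtain ⟨u', -, hu'⟩ := hbij.surjOn ht
      obtain ⟨t', ht', -⟩ := exists_fib_lift ξ φ t u' hu'
      rw [← ht', ← germ_map, map_sub, heq, sub_self, map_zero]
    · rw [map_sub, hout ξ t s₁ Z h₁ ht, hout ξ t s₂ Z h₂ ht, sub_zero]
  · let x : ∀ i, (F.obj ⋙ forget AddCommGrpCat.{u + 1}).obj (op (Y i))
      | ⟨true⟩ => s'
      | ⟨false⟩ => (0 : EtCoh.sect F V)
    have hV : ∀ v : V.left, j.left.base v ∉ Z := fun v => (v : O).2
    have key : ∀ {T : X.Etale} (a b : T ⟶ U'), a ≫ φ = b ≫ φ →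
        F.obj.map a.op s' = F.obj.map b.op s' := by
      intro T a b hab
      rw [← sub_eq_zero]
      refine section_eq_zero_of_germs F T _ fun Ω _ _ ξ t => ?_
      rw [map_sub, germ_map, germ_map, sub_eq_zero]
      let τ : Spec (CommRingCat.of Ω) ⟶ T.left := t.left
      let α : T.left ⟶ U'.left := a.left
      let β : T.left ⟶ U'.left := b.left
      have he : (τ ≫ α) ≫ φ.left = (τ ≫ β) ≫ φ.left := by
        rw [Category.assoc, Category.assoc]
        exact congrArg (τ ≫ ·) (congrArg (fun f : T ⟶ U => f.left) hab)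
      have hz : φ.left.base ((τ ≫ α).base (default : Spec (CommRingCat.of Ω))) =
          φ.left.base ((τ ≫ β).base (default : Spec (CommRingCat.of Ω))) := by
        rw [← Scheme.Hom.comp_apply, ← Scheme.Hom.comp_apply, he]
      by_cases hmem : φ.left.base ((τ ≫ α).base (default : Spec (CommRingCat.of Ω))) ∈ Z
      · have hmem' : φ.left.base ((τ ≫ β).base (default : Spec (CommRingCat.of Ω))) ∈ Z := hz ▸ hmem
        have hxx := hbij.injOn hmem hmem' hz
        have := field_point_ext φ.left _ (hres _ hmem).2 (τ ≫ α) (τ ≫ β) rfl hxx.symm he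
        exact congrArg (fun t => germ ξ F t s') (Over.OverMorphism.ext this)
      · rw [hout ξ ((Scheme.pointSmallEtale ξ).fiber.map a t) s' _ hs' hmem,
          hout ξ ((Scheme.pointSmallEtale ξ).fiber.map b t) s' _ hs' (fun h => hmem (hz.symm ▸ h : _))]
    have key0 : ∀ {T : X.Etale} (a : T ⟶ U') (b : T ⟶ V), a ≫ φ = b ≫ j →
        F.obj.map a.op s' = 0 := by
      intro T a b hab
      refine section_eq_zero_of_germs F T _ fun Ω _ _ ξ t => ?_
      rw [germ_map]
      refine hout ξ _ s' _ hs' fun h => ?_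
      have he : a.left ≫ φ.left = b.left ≫ j.left := congrArg (fun f : T ⟶ U => f.left) hab
      apply hV (b.left.base (t.left.base (default : Spec (CommRingCat.of Ω))))
      rw [← Scheme.Hom.comp_apply, ← he, Scheme.Hom.comp_apply]
      exact h
    have hc : Presieve.Arrows.Compatible (F.obj ⋙ forget AddCommGrpCat.{u + 1}) π x := by
      rintro ⟨i⟩ ⟨i'⟩ T gi gj h
      cases i <;> cases i'
      · exact (map_zero (F.obj.map gi.op).hom).trans (map_zero (F.obj.map gj.op).hom).symm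
      · exact (map_zero (F.obj.map gi.op).hom).trans (key0 gj gi h.symm).symm
      · exact (key0 gi gj h).trans (map_zero (F.obj.map gj.op).hom).symm
      · exact key gi gj h
    obtain ⟨s, hs, -⟩ := (Presieve.isSheafFor_arrows_iff _ _).1 hsh x hc
    refine ⟨s, fun y hy => ?_, hs ⟨true⟩⟩
    by_contra hyZ
    exact hy V j ⟨(⟨y, hyZ⟩ : O), rfl⟩ (hs ⟨false⟩)

end GrothLib.EtBasicB
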