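import Groth.Agent.Lib.EtBasicB.Subterminal
import Groth.Prelude.Def_EtOpen
import Mathlib.CategoryTheory.Limits.Types.Products

/-!
# Opens and subobjects of the final etale sheaf
-/

universe u

open CategoryTheory CategoryTheory.Limits AlgebraicGeometry Opposite

namespace GrothLib.EtBasicB

variable {X : Scheme.{u}}

/-- the presheaf of an open -/
noncomputable abbrev openPsh (U : X.Opens) : X.Etaleᵒᵖ ⥤ Type (u + 1) :=
  yoneda.obj (EtDesc.ofOpen U) ⋙ uliftFunctor.{u + 1, u}

theorem subsingleton_openPsh (U : X.Opens) (T : X.Etaleᵒᵖ) : Subsingleton ((openPsh U).obj T) :=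
  haveI := subsingleton_hom_open U T.unop
  inferInstanceAs (Subsingleton (ULift.{u + 1} (T.unop ⟶ EtDesc.ofOpen U)))

theorem nonempty_openPsh_iff (U : X.Opens) (T : X.Etale) :
    Nonempty ((openPsh U).obj (op T)) ↔ Set.range T.hom.base ⊆ (U : Set X) := by
  rw [← nonempty_hom_open_iff U T]
  exact ⟨fun ⟨a⟩ => ⟨a.down⟩, fun ⟨a⟩ => ⟨⟨a⟩⟩⟩

theorem isSheaf_openPsh (U : X.Opens) : Presheaf.IsSheaf X.smallEtaleTopology (openPsh U) := by
  rw [isSheaf_iff_isSheaf_of_type]
  intro T R hR s _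
  have : Nonempty ((openPsh U).obj (op T)) := by
    rw [nonempty_openPsh_iff]
    rintro _ ⟨t, rfl⟩
    obtain ⟨V, g, v, hg, rfl⟩ := (GrothLib.EtSite.mem_topology_iff R).1 hR t
    have h1 := (nonempty_openPsh_iff U V).1 ⟨s g hg⟩ ⟨v, rfl⟩
    have e : g.left ≫ T.hom = V.hom := Over.w g.hom
    rw [← e, Scheme.Hom.comp_apply] at h1
    exact h1
  refine ⟨this.some, fun V f hf => @Subsingleton.elim _ (subsingleton_openPsh U _) _ _, fun y _ =>
    @Subsingleton.elim _ (subsingleton_openPsh U _) _ _⟩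

/-- the sheaf of an open -/
noncomputable def openSheaf (U : X.Opens) : EtDesc.Sh X := ⟨openPsh U, isSheaf_openPsh U⟩

/-- `repSh` of an open is the presheaf itself -/
noncomputable def repShOpenIso (U : X.Opens) : EtDesc.repSh (EtDesc.ofOpen U) ≅ openSheaf U :=
  (sheafificationIso (openSheaf U)).symm

theorem mono_terminal_from_iff (F : EtDesc.Sh X) :
    Mono (terminal.from F) ↔ ∀ T, Subsingleton (F.obj.obj T) := by
  constructor
  · intro h T
    refine ⟨fun a b => ?_⟩
    let E : EtDesc.Sh X ⥤ Type (u + 1) :=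
      sheafToPresheaf _ _ ⋙ (evaluation _ _).obj T
    haveI : Mono (E.map (terminal.from F)) := inferInstance
    have hsub : Subsingleton (E.obj (⊤_ EtDesc.Sh X)) :=
      ⟨fun x y => by
        have := IsTerminal.hom_ext (isLimitOfHasTerminalOfPreservesLimit E)
          ((↾fun _ => x) : PUnit.{u + 2} ⟶ E.obj (⊤_ EtDesc.Sh X)) (↾fun _ => y)
        exact ConcreteCategory.congr_hom this PUnit.unit⟩
    exact (CategoryTheory.mono_iff_injective (E.map (terminal.from F))).1 inferInstance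
      (@Subsingleton.elim _ hsub _ _)
  · intro h
    refine ⟨fun a b _ => ?_⟩
    apply ObjectProperty.hom_ext
    ext T x
    exact @Subsingleton.elim _ (h T) _ _

theorem opens_orderIso_subterminal (X : Scheme.{u}) :
    (∀ U : X.Opens, Mono (terminal.from (EtDesc.repSh (EtDesc.ofOpen U)))) ∧
    (∀ U V : X.Opens, U ≤ V ↔
      Nonempty (EtDesc.repSh (EtDesc.ofOpen U) ⟶ EtDesc.repSh (EtDesc.ofOpen V))) ∧
    (∀ F : EtDesc.Sh X, Mono (terminal.from F) →
      ∃ U : X.Opens, Nonempty (F ≅ EtDesc.repSh (EtDesc.ofOpen U))) := by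
  refine ⟨fun U => ?_, fun U V => ⟨fun h => ?_, fun ⟨φ⟩ => ?_⟩, fun F hF => ?_⟩
  · have : Mono (terminal.from (openSheaf U)) :=
      (mono_terminal_from_iff _).2 (subsingleton_openPsh U)
    rw [Subsingleton.elim (terminal.from (EtDesc.repSh (EtDesc.ofOpen U)))
      ((repShOpenIso U).hom ≫ terminal.from (openSheaf U))]
    exact mono_comp _ _
  · have hh : ∀ T, Nonempty ((openPsh U).obj (op T)) → Nonempty ((openPsh V).obj (op T)) := fun T hT =>
      (nonempty_openPsh_iff V T).2 (((nonempty_openPsh_iff U T).1 hT).trans h)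
    let ψ : openSheaf U ⟶ openSheaf V :=
      ⟨{ app := fun T => ↾fun a => (hh T.unop ⟨a⟩).some
         naturality := fun T T' f => by
           ext a
           exact @Subsingleton.elim _ (subsingleton_openPsh V T') _ _ }⟩
    exact ⟨(repShOpenIso U).hom ≫ ψ ≫ (repShOpenIso V).inv⟩
  · let ψ := (repShOpenIso U).inv ≫ φ ≫ (repShOpenIso V).hom
    have hr : Set.range (EtDesc.ofOpen U).hom.base = (U : Set X) := Scheme.Opens.range_ι U
    obtain ⟨a⟩ := (nonempty_openPsh_iff U (EtDesc.ofOpen U)).2 hr.le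
    exact hr.ge.trans ((nonempty_openPsh_iff V (EtDesc.ofOpen U)).1 ⟨ψ.hom.app _ a⟩)
  · have hs := (mono_terminal_from_iff F).1 hF
    obtain ⟨W, hW⟩ := exists_open_of_subsingleton F.obj
      ((isSheaf_iff_isSheaf_of_type _ _).1 F.property) (fun T => hs (op T))
    have h1 : ∀ T : X.Etaleᵒᵖ, Nonempty (F.obj.obj T) ↔ Nonempty ((openPsh W).obj T) := fun T =>
      (hW T.unop).trans (nonempty_openPsh_iff W T.unop).symm
    let e : F ≅ openSheaf W := (fullyFaithfulSheafToPresheaf _ _).preimageIso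
      (NatIso.ofComponents (fun T => Equiv.toIso (@Equiv.ofBijective (F.obj.obj T) ((openPsh W).obj T)
        (fun a => ((h1 T).1 ⟨a⟩).some)
        ⟨fun a b _ => @Subsingleton.elim _ (hs T) _ _, fun b => ⟨((h1 T).2 ⟨b⟩).some,
          @Subsingleton.elim _ (subsingleton_openPsh W T) _ _⟩⟩))
        (fun {T T'} f => by ext a; exact @Subsingleton.elim _ (subsingleton_openPsh W T') _ _))
    exact ⟨W, ⟨e ≪≫ (repShOpenIso W).symm⟩⟩

end GrothLib.EtBasicB
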