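import Groth.Agent.Lib.EtSite.Points
import Groth.Prelude.Def_EtBase
import Mathlib.AlgebraicGeometry.Morphisms.UniversallyOpen

/-!
# Subsheaves of the final sheaf on the small etale site
-/

universe w u

open CategoryTheory CategoryTheory.Limits AlgebraicGeometry Opposite

namespace GrothLib.EtBasicB

variable {S : Scheme.{u}}

/-- morphisms to an open subscheme in the etale site -/
theorem subsingleton_hom_open (W : S.Opens) (U : S.Etale) :
    Subsingleton (U ⟶ Scheme.Etale.mk W.ι) := by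
  refine ⟨fun a b => MorphismProperty.Over.Hom.ext ?_⟩
  refine (cancel_mono W.ι).1 ?_
  exact (Over.w a.hom).trans (Over.w b.hom).symm

theorem nonempty_hom_open_iff (W : S.Opens) (U : S.Etale) :
    Nonempty (U ⟶ Scheme.Etale.mk W.ι) ↔ Set.range U.hom.base ⊆ (W : Set S) := by
  constructor
  · rintro ⟨a⟩
    rintro _ ⟨x, rfl⟩
    rw [← show a.left ≫ W.ι = U.hom from Over.w a.hom, Scheme.Hom.comp_apply]
    exact (a.left.base x).2
  · intro h
    let φ : U.left ⟶ S := U.hom
    have hr : Set.range φ.base ⊆ Set.range W.ι.base := h.trans (Scheme.Opens.range_ι W).ge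
    let l : U.left ⟶ (W : Scheme.{u}) := IsOpenImmersion.lift W.ι φ hr
    have hl : l ≫ W.ι = φ := IsOpenImmersion.lift_fac W.ι φ hr
    exact ⟨MorphismProperty.Over.homMk l hl trivial⟩

/-- the open where a subterminal sheaf lives -/
theorem exists_open_of_subsingleton (F : S.Etaleᵒᵖ ⥤ Type w)
    (hsh : Presieve.IsSheaf S.smallEtaleTopology F)
    (hF : ∀ U : S.Etale, Subsingleton (F.obj (op U))) :
    ∃ W : S.Opens, ∀ U : S.Etale, Nonempty (F.obj (op U)) ↔ Set.range U.hom.base ⊆ (W : Set S) := by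
  let W : S.Opens := ⟨{y | ∃ (U : S.Etale), Nonempty (F.obj (op U)) ∧ y ∈ Set.range U.hom.base}, by
    rw [isOpen_iff_forall_mem_open]
    rintro y ⟨U, hU, hy⟩
    let φ : U.left ⟶ S := U.hom
    haveI : Etale φ := U.prop
    exact ⟨Set.range φ.base, fun z hz => ⟨U, hU, hz⟩, φ.isOpenMap.isOpen_range, hy⟩⟩
  refine ⟨W, fun U => ⟨fun h y hy => ⟨U, h, hy⟩, fun h => ?_⟩⟩
  let R : Sieve U :=
    { arrows := fun V _ => Nonempty (F.obj (op V))
      downward_closed := fun {V V' f} hf k => hf.map (F.map k.op) }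
  have hR : R ∈ S.smallEtaleTopology U := by
    rw [GrothLib.EtSite.mem_topology_iff]
    intro x
    obtain ⟨U', hU', x', hx'⟩ := h ⟨x, rfl⟩
    obtain ⟨p, hp, -⟩ := Scheme.Pullback.exists_preimage_pullback (f := U.hom) (g := U'.hom) x x' hx'.symm
    let P : S.Etale := Scheme.Etale.mk (pullback.fst U.hom U'.hom ≫ U.hom)
    let g : P ⟶ U := MorphismProperty.Over.homMk (pullback.fst U.hom U'.hom) rfl trivial
    let g' : P ⟶ U' := MorphismProperty.Over.homMk (pullback.snd U.hom U'.hom)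
      (pullback.condition.symm) trivial
    exact ⟨P, g, p, hU'.map (F.map g'.op), hp⟩
  let s : Presieve.FamilyOfElements F R.arrows := fun V f hf => hf.some
  exact ⟨(hsh R hR).amalgamate s fun _ _ _ _ _ _ _ _ _ _ => @Subsingleton.elim _ (hF _) _ _⟩

/-- a subterminal sheaf is represented by exactly one open -/
theorem existsUnique_open (F : Sheaf S.smallEtaleTopology (Type u))
    (hF : ∀ U : S.Etale, Subsingleton (F.obj.obj (op U))) :
    ∃! W : S.Opens, Nonempty (F.obj ≅ yoneda.obj (Scheme.Etale.mk W.ι)) := by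
  obtain ⟨W, hW⟩ := exists_open_of_subsingleton F.obj ((isSheaf_iff_isSheaf_of_type _ _).1 F.property) hF
  refine ⟨W, ⟨NatIso.ofComponents (fun U => Equiv.toIso (@Equiv.ofBijective _ _
      (fun a => ((nonempty_hom_open_iff W U.unop).2 ((hW U.unop).1 ⟨a⟩)).some)
      ⟨fun a b _ => @Subsingleton.elim _ (hF U.unop) _ _, fun b =>
        ⟨((hW U.unop).2 ((nonempty_hom_open_iff W U.unop).1 ⟨b⟩)).some,
          @Subsingleton.elim _ (subsingleton_hom_open W U.unop) _ _⟩⟩))
      (fun {U V} f => by ext a; exact @Subsingleton.elim _ (subsingleton_hom_open W V.unop) _ _)⟩, ?_⟩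
  rintro W' ⟨e⟩
  have key : ∀ U : S.Etale, Set.range U.hom.base ⊆ (W' : Set S) ↔ Set.range U.hom.base ⊆ (W : Set S) :=
    fun U => by
      rw [← nonempty_hom_open_iff W' U, ← hW U]
      exact ⟨fun ⟨a⟩ => ⟨e.inv.app (op U) a⟩, fun ⟨a⟩ => ⟨e.hom.app (op U) a⟩⟩
  have hr : ∀ V : S.Opens, Set.range (Scheme.Etale.mk V.ι : S.Etale).hom.base = (V : Set S) :=
    fun V => Scheme.Opens.range_ι V
  refine TopologicalSpace.Opens.ext (subset_antisymm ?_ ?_)
  · exact (hr W').ge.trans ((key _).1 (hr W').le)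
  · exact (hr W).ge.trans ((key _).2 (hr W).le)

end GrothLib.EtBasicB
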