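import Groth.Agent.Lib.EtBasicB.Supports
import Mathlib.Algebra.Category.Ring.FilteredColimits
import Mathlib.Algebra.Category.Ring.Limits

/-!
# Support of a sheaf of rings
-/

universe u

open CategoryTheory CategoryTheory.Limits AlgebraicGeometry Opposite
open GrothLib.EtSite

namespace GrothLib.EtBasicB

variable {S : Scheme.{u}}

theorem isClosed_supp_rings (O : Sheaf S.smallEtaleTopology CommRingCat.{u}) :
    IsClosed {s : S | ∃ (Ω : Type u) (_ : Field Ω) (_ : IsSepClosed Ω)
      (ξ : Spec (CommRingCat.of Ω) ⟶ S), ξ.base default = s ∧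
        Nontrivial ↑((Scheme.pointSmallEtale ξ).presheafFiber.obj O.obj)} := by
  rw [← isOpen_compl_iff, isOpen_iff_forall_mem_open]
  intro s hs
  have h0 : Subsingleton ↑((Scheme.pointSmallEtale (gpt s)).presheafFiber.obj O.obj) :=
    not_nontrivial_iff_subsingleton.1 fun h =>
      hs ⟨_, inferInstance, inferInstance, gpt s, gpt_default s, h⟩
  let Φ := Scheme.pointSmallEtale (gpt s)
  obtain ⟨U, t, z, hz⟩ := Φ.toPresheafFiber_jointly_surjective
    (P := O.obj) (0 : ↑(Φ.presheafFiber.obj O.obj))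
  obtain ⟨V, g, v, hv, hg⟩ := (Φ.toPresheafFiber_eq_iff' U t (1 : ↑(O.obj.obj (op U))) 0).1
    (Subsingleton.elim _ _)
  rw [map_one, map_zero] at hg
  let x : V.left := v.left.base (default : Spec (CommRingCat.of (SeparableClosure (S.residueField s))))
  refine ⟨Set.range V.hom.base, ?_, ?_, ⟨x, ?_⟩⟩
  · rintro _ ⟨y, rfl⟩ ⟨Ω, _, _, ξ, hξ, hnt⟩
    obtain ⟨w, -⟩ := exists_fib ξ (U := V) y hξ.symm
    haveI := hnt
    refine one_ne_zero (α := ↑((Scheme.pointSmallEtale ξ).presheafFiber.obj O.obj)) ?_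
    rw [← map_one ((Scheme.pointSmallEtale ξ).toPresheafFiber V w O.obj).hom, hg, map_zero]
  · let φ : V.left ⟶ S := V.hom
    haveI : Etale φ := V.prop
    exact φ.isOpenMap.isOpen_range
  · have e : v.left ≫ V.hom = gpt s := Over.w v
    have := gpt_default s
    rw [← e, Scheme.Hom.comp_apply] at this
    exact this

end GrothLib.EtBasicB
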